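import Mathlib

/-! Cyclic endomorphisms, similarity and the cyclic decomposition. -/

set_option autoImplicit false
set_option backward.isDefEq.respectTransparency false

namespace Cfsg.Agent.Com

open Polynomial Module

universe u

variable {F : Type u} [Field F]
variable {V W U Q : Type u} [AddCommGroup V] [Module F V] [AddCommGroup W] [Module F W]
  [AddCommGroup U] [Module F U] [AddCommGroup Q] [Module F Q]

/-- Similarity of endomorphisms. -/
def Sim (f : End F V) (g : End F W) : Prop := ∃ e : V ≃ₗ[F] W, ∀ x, e (f x) = g (e x)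

theorem Sim.refl (f : End F V) : Sim f f := ⟨LinearEquiv.refl F V, fun _ => rfl⟩

theorem Sim.symm {f : End F V} {g : End F W} (h : Sim f g) : Sim g f := by
  obtain ⟨e, he⟩ := h
  exact ⟨e.symm, fun x => e.injective (by rw [he]; simp)⟩

theorem Sim.trans {f : End F V} {g : End F W} {k : End F U} (h : Sim f g) (h' : Sim g k) :
    Sim f k := by
  obtain ⟨e, he⟩ := h
  obtain ⟨e', he'⟩ := h'
  exact ⟨e.trans e', fun x => by simp [he, he']⟩

theorem Sim.prod {f : End F V} {g : End F W} {f' : End F U} {g' : End F Q} (h : Sim f g)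
    (h' : Sim f' g') : Sim (f.prodMap f') (g.prodMap g') := by
  obtain ⟨e, he⟩ := h
  obtain ⟨e', he'⟩ := h'
  exact ⟨e.prodCongr e', fun x => by simp [he, he']⟩

theorem sim_comm (f : End F V) (g : End F W) : Sim (f.prodMap g) (g.prodMap f) :=
  ⟨LinearEquiv.prodComm F V W, fun _ => rfl⟩

theorem sim_assoc (f : End F V) (g : End F W) (k : End F U) :
    Sim ((f.prodMap g).prodMap k) (f.prodMap (g.prodMap k)) :=
  ⟨LinearEquiv.prodAssoc F V W U, fun _ => rfl⟩

theorem sim_zero (f : End F V) (g : End F W) [Subsingleton W] : Sim (f.prodMap g) f :=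
  ⟨LinearEquiv.ofBijective (LinearMap.fst F V W)
    ⟨fun _ _ h => Prod.ext h (Subsingleton.elim _ _), fun x => ⟨(x, 0), rfl⟩⟩, fun _ => rfl⟩

theorem Sim.det {f : End F V} {g : End F W} (h : Sim f g) :
    LinearMap.det f = LinearMap.det g := by
  obtain ⟨e, he⟩ := h
  rw [← LinearMap.det_conj f e]
  congr 1
  ext x
  simp [he]

theorem Sim.finrank {f : End F V} {g : End F W} (h : Sim f g) : finrank F V = finrank F W := by
  obtain ⟨e, -⟩ := h
  exact e.finrank_eq

theorem aeval_int {f : End F V} {g : End F W} (i : V →ₗ[F] W) (h : ∀ x, i (f x) = g (i x))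
    (p : F[X]) (x : V) : i (aeval f p x) = aeval g p (i x) := by
  induction p using Polynomial.induction_on' generalizing x with
  | add p q hp hq => simp [hp, hq]
  | monomial n a =>
    simp only [aeval_monomial, End.mul_apply, Module.algebraMap_end_apply, map_smul]
    congr 1
    induction n generalizing x with
    | zero => rfl
    | succ n ih => rw [pow_succ, pow_succ, End.mul_apply, End.mul_apply, ih, h]

theorem aeval_mul_apply (f : End F V) (p q : F[X]) (x : V) :
    aeval f (p * q) x = aeval f p (aeval f q x) := by rw [map_mul]; rfl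

/-- `f` is cyclic with characteristic polynomial `p`. -/
def Cy (f : End F V) (p : F[X]) : Prop :=
  p.Monic ∧ p.natDegree = finrank F V ∧ ∃ v, ∀ g : F[X], aeval f g v = 0 ↔ p ∣ g

theorem finrank_adj {p : F[X]} (hp : p.Monic) : finrank F (AdjoinRoot p) = p.natDegree :=
  (AdjoinRoot.powerBasis' hp).finrank

theorem exists_L {f : End F V} {p : F[X]} (hp : p.Monic) {v : V} (h : aeval f p v = 0) :
    ∃ L : AdjoinRoot p →ₗ[F] V, ∀ g, L (AdjoinRoot.mk p g) = aeval f g v := by
  refine ⟨(LinearMap.applyₗ v) ∘ₗ (aeval f : F[X] →ₐ[F] End F V).toLinearMap ∘ₗ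
    AdjoinRoot.modByMonicHom hp, fun g => ?_⟩
  show aeval f (g %ₘ p) v = _
  conv_rhs => rw [← modByMonic_add_div g p, map_add, LinearMap.add_apply, mul_comm,
    aeval_mul_apply, h, map_zero, add_zero]

theorem L_inj {f : End F V} {p : F[X]} {v : V} (h : ∀ g : F[X], aeval f g v = 0 → p ∣ g)
    {L : AdjoinRoot p →ₗ[F] V} (hL : ∀ g, L (AdjoinRoot.mk p g) = aeval f g v) :
    Function.Injective L := by
  rw [injective_iff_map_eq_zero]
  intro x hx
  obtain ⟨g, rfl⟩ := AdjoinRoot.mk_surjective x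
  exact AdjoinRoot.mk_eq_zero.mpr (h g (hL g ▸ hx))

theorem exists_fun {f : End F V} {p : F[X]} (hp : p.Monic) {v : V}
    (h : ∀ g : F[X], aeval f g v = 0 ↔ p ∣ g) (j : ℕ) :
    ∃ l : V →ₗ[F] F, ∀ g, l (aeval f g v) = (g %ₘ p).coeff j := by
  obtain ⟨L, hL⟩ := exists_L hp ((h p).mpr dvd_rfl)
  obtain ⟨r, hr⟩ := L.exists_leftInverse_of_injective
    (LinearMap.ker_eq_bot.mpr (L_inj (fun g => (h g).mp) hL))
  refine ⟨lcoeff F j ∘ₗ AdjoinRoot.modByMonicHom hp ∘ₗ r, fun g => ?_⟩
  have : r (L (AdjoinRoot.mk p g)) = AdjoinRoot.mk p g := LinearMap.congr_fun hr _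
  rw [← hL, LinearMap.comp_apply, LinearMap.comp_apply, this]
  rfl

variable [FiniteDimensional F V] [FiniteDimensional F W] [FiniteDimensional F U]
  [FiniteDimensional F Q]

theorem cy_equiv {f : End F V} {p : F[X]} (hp : p.Monic) (hd : p.natDegree = finrank F V) {v : V}
    (h : ∀ g : F[X], aeval f g v = 0 ↔ p ∣ g) :
    ∃ e : AdjoinRoot p ≃ₗ[F] V, ∀ g, e (AdjoinRoot.mk p g) = aeval f g v := by
  haveI := hp.finite_adjoinRoot
  obtain ⟨L, hL⟩ := exists_L hp ((h p).mpr dvd_rfl)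
  have hi := L_inj (fun g => (h g).mp) hL
  exact ⟨LinearEquiv.ofBijective L ⟨hi, (LinearMap.injective_iff_surjective_of_finrank_eq_finrank
    (by rw [finrank_adj hp, hd])).mp hi⟩, hL⟩

theorem Cy.gen {f : End F V} {p : F[X]} (h : Cy f p) :
    ∃ v, (∀ g : F[X], aeval f g v = 0 ↔ p ∣ g) ∧ ∀ w, ∃ g : F[X], aeval f g v = w := by
  obtain ⟨hp, hd, v, hv⟩ := h
  obtain ⟨e, he⟩ := cy_equiv hp hd hv
  refine ⟨v, hv, fun w => ?_⟩
  obtain ⟨x, rfl⟩ := e.surjective w
  obtain ⟨g, rfl⟩ := AdjoinRoot.mk_surjective x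
  exact ⟨g, (he g).symm⟩

theorem Cy.sim {f : End F V} {g : End F W} {p : F[X]} (h : Cy f p) (h' : Cy g p) : Sim f g := by
  obtain ⟨hp, hd, v, hv⟩ := h
  obtain ⟨-, hd', w, hw⟩ := h'
  obtain ⟨e, he⟩ := cy_equiv hp hd hv
  obtain ⟨e', he'⟩ := cy_equiv hp hd' hw
  refine ⟨e.symm.trans e', fun x => ?_⟩
  obtain ⟨x, rfl⟩ := e.surjective x
  obtain ⟨k, rfl⟩ := AdjoinRoot.mk_surjective x
  have : f (e (AdjoinRoot.mk p k)) = e (AdjoinRoot.mk p (X * k)) := by
    rw [he, he, aeval_mul_apply, aeval_X]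
  rw [this]
  simp only [LinearEquiv.trans_apply, LinearEquiv.symm_apply_apply]
  rw [he', he', aeval_mul_apply, aeval_X]

omit [FiniteDimensional F V] [FiniteDimensional F W] in
theorem Cy.of_sim {f : End F V} {g : End F W} {p : F[X]} (h : Cy f p) (hs : Sim f g) : Cy g p := by
  obtain ⟨hp, hd, v, hv⟩ := h
  obtain ⟨e, he⟩ := hs
  refine ⟨hp, hd.trans e.finrank_eq, e v, fun k => ?_⟩
  rw [← hv, ← e.map_eq_zero_iff]
  exact Eq.congr_left (aeval_int (e : V →ₗ[F] W) he k v).symm

theorem Cy.aeval_iff {f : End F V} {p : F[X]} (h : Cy f p) (g : F[X]) : aeval f g = 0 ↔ p ∣ g := by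
  obtain ⟨v, hv, hs⟩ := h.gen
  refine ⟨fun e => (hv g).mp (by rw [e]; rfl), fun e => LinearMap.ext fun w => ?_⟩
  obtain ⟨k, rfl⟩ := hs w
  rw [← aeval_mul_apply]
  exact (hv _).mpr (e.mul_right k)

theorem Cy.charpoly {f : End F V} {p : F[X]} (h : Cy f p) : f.charpoly = p :=
  eq_of_monic_of_dvd_of_natDegree_le h.1 f.charpoly_monic
    ((h.aeval_iff _).mp f.aeval_self_charpoly) (by rw [f.charpoly_natDegree, h.2.1])

theorem cy_of_ann {f : End F V} {p : F[X]} (hp : p.Monic) (hd : p.natDegree = finrank F V) {v : V}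
    (h : ∀ g : F[X], aeval f g v = 0 → p ∣ g) : Cy f p := by
  have e : f.charpoly = p := eq_of_monic_of_dvd_of_natDegree_le hp f.charpoly_monic
    (h _ (by rw [f.aeval_self_charpoly]; rfl)) (by rw [f.charpoly_natDegree, hd])
  refine ⟨hp, hd, v, fun g => ⟨h g, ?_⟩⟩
  rintro ⟨k, rfl⟩
  rw [mul_comm, aeval_mul_apply, ← e, f.aeval_self_charpoly]
  simp

theorem cy_of_gen {f : End F V} {p : F[X]} (hp : p.Monic) (hd : p.natDegree = finrank F V) {v : V}
    (h0 : aeval f p v = 0) (h : ∀ w, ∃ g : F[X], aeval f g v = w) : Cy f p := by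
  haveI := hp.finite_adjoinRoot
  obtain ⟨L, hL⟩ := exists_L hp h0
  have hi : Function.Injective L := (LinearMap.injective_iff_surjective_of_finrank_eq_finrank
    (by rw [finrank_adj hp, hd])).mpr (fun w => by
      obtain ⟨g, rfl⟩ := h w
      exact ⟨_, hL g⟩)
  refine cy_of_ann hp hd (v := v) (fun g hg => ?_)
  rw [← hL, map_eq_zero_iff _ hi] at hg
  exact AdjoinRoot.mk_eq_zero.mp hg

theorem exists_ann (f : End F V) : ∃ v, ∀ g : F[X], aeval f g v = 0 ↔ minpoly F f ∣ g := by
  obtain ⟨x, hx⟩ := exists_ker_toSpanSingleton_eq_annihilator F[X] (AEval' f)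
  obtain ⟨x, rfl⟩ := (AEval'.of f).surjective x
  rw [← span_minpoly_eq_annihilator] at hx
  refine ⟨x, fun g => ?_⟩
  rw [← Ideal.mem_span_singleton, ← hx, LinearMap.mem_ker, LinearMap.toSpanSingleton_apply,
    ← (AEval'.of f).map_eq_zero_iff]
  rfl

theorem cy_of_dvd {f : End F V} {p : F[X]} (hp : p.Monic) (hd : p.natDegree = finrank F V)
    (h : ∀ g : F[X], aeval f g = 0 → p ∣ g) : Cy f p := by
  obtain ⟨v, hv⟩ := exists_ann f
  exact cy_of_ann hp hd (v := v) (fun g hg => (h _ (minpoly.aeval F f)).trans ((hv g).mp hg))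

theorem exists_model {p : F[X]} (hp : p.Monic) : ∃ G : End F (Fin p.natDegree → F), Cy G p := by
  haveI := hp.finite_adjoinRoot
  have h : Cy (LinearMap.mulLeft F (AdjoinRoot.root p)) p := by
    refine ⟨hp, (finrank_adj hp).symm, 1, fun g => ?_⟩
    have : aeval (LinearMap.mulLeft F (AdjoinRoot.root p)) g = LinearMap.mulLeft F (aeval (AdjoinRoot.root p) g) :=
      aeval_algHom_apply (Algebra.lmul F (AdjoinRoot p)) (AdjoinRoot.root p) g
    rw [this, LinearMap.mulLeft_apply, mul_one, AdjoinRoot.aeval_eq, AdjoinRoot.mk_eq_zero]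
  let e : AdjoinRoot p ≃ₗ[F] (Fin p.natDegree → F) := LinearEquiv.ofFinrankEq _ _
    (by rw [finrank_adj hp]; simp)
  exact ⟨e.conj (LinearMap.mulLeft F (AdjoinRoot.root p)), h.of_sim ⟨e, fun x => by simp⟩⟩

/-- The determinant of a companion matrix. -/
noncomputable def dt (p : F[X]) : F := (-1) ^ p.natDegree * p.coeff 0

theorem det_eq_dt (f : End F V) : LinearMap.det f = dt f.charpoly := by
  classical
  let b := Module.Free.chooseBasis F V
  rw [← LinearMap.det_toMatrix b, Matrix.det_eq_sign_charpoly_coeff, LinearMap.charpoly_toMatrix,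
    dt, f.charpoly_natDegree, finrank_eq_card_basis b]

theorem Cy.det {f : End F V} {p : F[X]} (h : Cy f p) : LinearMap.det f = dt p := by
  rw [det_eq_dt, h.charpoly]

theorem Cy.trace {f : End F V} {p : F[X]} (h : Cy f p) :
    LinearMap.trace F V f = -p.nextCoeff := by
  classical
  let b := Module.Free.chooseBasis F V
  rw [LinearMap.trace_eq_matrix_trace F b, Matrix.trace_eq_neg_charpoly_nextCoeff,
    LinearMap.charpoly_toMatrix, h.charpoly]

theorem dt_mul {p q : F[X]} (hp : p.Monic) (hq : q.Monic) : dt (p * q) = dt p * dt q := by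
  simp only [dt, hp.natDegree_mul hq, mul_coeff_zero, pow_add]; ring

theorem dt_X_sub_C (a : F) : dt (X - C a) = a := by simp [dt]

theorem dt_one : dt (1 : F[X]) = 1 := by simp [dt]

theorem dt_pow {p : F[X]} (hp : p.Monic) (k : ℕ) : dt (p ^ k) = dt p ^ k := by
  induction k with
  | zero => simp [dt_one]
  | succ k ih => rw [pow_succ, dt_mul (hp.pow k) hp, ih, pow_succ]

theorem cy_ses {T : End F V} {T1 : End F U} {T2 : End F Q} {p1 p2 : F[X]} (h1 : Cy T1 p1)
    (h2 : Cy T2 p2) (hc : IsCoprime p1 p2) (i : U →ₗ[F] V) (π : V →ₗ[F] Q)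
    (hi : Function.Injective i) (hπ : Function.Surjective π) (e1 : ∀ x, i (T1 x) = T (i x))
    (e2 : ∀ x, π (T x) = T2 (π x)) (hd : finrank F U + finrank F Q = finrank F V) :
    Cy T (p1 * p2) := by
  refine cy_of_dvd (h1.1.mul h2.1) (by rw [h1.1.natDegree_mul h2.1, h1.2.1, h2.2.1, hd])
    (fun g hg => hc.mul_dvd ((h1.aeval_iff g).mp ?_) ((h2.aeval_iff g).mp ?_))
  · ext x
    apply hi
    rw [aeval_int i e1, hg]; simp
  · ext x
    obtain ⟨y, rfl⟩ := hπ x
    rw [← aeval_int π e2, hg]; simp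

theorem det_ses {T : End F V} {T1 : End F U} {T2 : End F Q} (i : U →ₗ[F] V) (π : V →ₗ[F] Q)
    (hi : Function.Injective i) (hπ : Function.Surjective π) (e1 : ∀ x, i (T1 x) = T (i x))
    (e2 : ∀ x, π (T x) = T2 (π x)) (h0 : ∀ x, π (i x) = 0)
    (hd : finrank F U + finrank F Q = finrank F V) :
    LinearMap.det T = LinearMap.det T1 * LinearMap.det T2 := by
  have hr : LinearMap.range i = LinearMap.ker π := by
    refine Submodule.eq_of_le_of_finrank_eq (by rintro _ ⟨x, rfl⟩; exact h0 x) ?_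
    have := π.finrank_range_add_finrank_ker
    rw [LinearMap.range_eq_top.mpr hπ, finrank_top] at this
    rw [LinearMap.finrank_range_of_inj hi]; omega
  have he : LinearMap.ker π ≤ (LinearMap.ker π).comap T := fun x hx => by
    rw [Submodule.mem_comap, LinearMap.mem_ker, e2, LinearMap.mem_ker.mp hx, map_zero]
  rw [LinearMap.det_eq_det_mul_det _ T he]
  congr 1
  · refine (Sim.det ⟨(LinearEquiv.ofInjective i hi).trans (LinearEquiv.ofEq _ _ hr), fun x => ?_⟩).symm
    exact Subtype.ext (e1 x)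
  · refine Sim.det ⟨π.quotKerEquivOfSurjective hπ, fun x => ?_⟩
    obtain ⟨y, rfl⟩ := Submodule.Quotient.mk_surjective _ x
    exact e2 y

/-- A block upper triangular endomorphism. -/
def tri (T1 : End F U) (Z : Q →ₗ[F] U) (T2 : End F Q) : End F (U × Q) :=
  (T1.coprod Z).prod (T2 ∘ₗ LinearMap.snd F U Q)

omit [FiniteDimensional F U] [FiniteDimensional F Q] in
@[simp] theorem tri_apply (T1 : End F U) (Z : Q →ₗ[F] U) (T2 : End F Q) (x : U × Q) :
    tri T1 Z T2 x = (T1 x.1 + Z x.2, T2 x.2) := rfl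

theorem cy_tri {T1 : End F U} {T2 : End F Q} {p1 p2 : F[X]} (h1 : Cy T1 p1)
    (h2 : Cy T2 p2) (hc : IsCoprime p1 p2) (Z : Q →ₗ[F] U) : Cy (tri T1 Z T2) (p1 * p2) :=
  cy_ses h1 h2 hc (LinearMap.inl F U Q) (LinearMap.snd F U Q) LinearMap.inl_injective
    (fun y => ⟨(0, y), rfl⟩) (fun x => by simp) (fun x => rfl) finrank_prod.symm

theorem cy_prod {T1 : End F U} {T2 : End F Q} {p1 p2 : F[X]} (h1 : Cy T1 p1)
    (h2 : Cy T2 p2) (hc : IsCoprime p1 p2) : Cy (T1.prodMap T2) (p1 * p2) := by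
  have := cy_tri h1 h2 hc 0
  convert this using 1
  ext <;> simp

theorem cy_link {T1 : End F U} {T2 : End F Q} {p1 p2 : F[X]} (h1 : Cy T1 p1)
    (h2 : Cy T2 p2) (h0 : 0 < p2.natDegree) : ∃ Z : Q →ₗ[F] U, Cy (tri T1 Z T2) (p1 * p2) := by
  obtain ⟨hp1, hd1, v1, hv1⟩ := h1
  obtain ⟨hp2, hd2, v2, hv2⟩ := h2
  obtain ⟨m, hm⟩ : ∃ m, p2.natDegree = m + 1 := ⟨p2.natDegree - 1, by omega⟩
  obtain ⟨l, hl⟩ := exists_fun hp2 hv2 m
  refine ⟨l.smulRight v1, ?_⟩
  set T := tri T1 (l.smulRight v1) T2 with hT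
  have hl' : ∀ i ≤ m, l ((T2 ^ i) v2) = if m = i then 1 else 0 := by
    intro i hi
    have := hl (X ^ i)
    rw [map_pow, aeval_X, (modByMonic_eq_self_iff hp2).mpr (by
      rw [degree_X_pow, degree_eq_natDegree hp2.ne_zero]; exact_mod_cast (by omega)),
      coeff_X_pow] at this
    exact this
  have k1 : ∀ i ≤ m, (T ^ i) (0, v2) = (0, (T2 ^ i) v2) := by
    intro i hi
    induction i with
    | zero => rfl
    | succ i ih =>
      rw [pow_succ', End.mul_apply, ih (by omega), hT, tri_apply, pow_succ', End.mul_apply]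
      simp [hl' i (by omega), show m ≠ i by omega]
  have k2 : (aeval T p2 (0, v2)).1 = v1 := by
    rw [aeval_eq_sum_range, hm, Finset.sum_range_succ, LinearMap.add_apply, LinearMap.sum_apply,
      Prod.fst_add, Prod.fst_sum, Finset.sum_eq_zero (fun i hi => by
        rw [LinearMap.smul_apply, k1 i (by simpa [Nat.lt_succ_iff] using hi)]; simp),
      ← hm, hp2.coeff_natDegree, hm, pow_succ', one_smul, End.mul_apply, k1 m le_rfl, hT, tri_apply]
    simp [hl' m le_rfl]
  have s2 : ∀ g : F[X], (aeval T g (0, v2)).2 = aeval T2 g v2 := fun g =>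
    aeval_int (f := T) (LinearMap.snd F U Q) (fun _ => rfl) g _
  refine cy_of_ann (hp1.mul hp2) (by rw [hp1.natDegree_mul hp2, hd1, hd2, finrank_prod])
    (v := (0, v2)) (fun g hg => ?_)
  obtain ⟨k, rfl⟩ := (hv2 g).mp (by rw [← s2, hg]; rfl)
  have k3 : aeval T p2 (0, v2) = LinearMap.inl F U Q v1 :=
    Prod.ext k2 ((s2 p2).trans ((hv2 p2).mpr dvd_rfl))
  rw [mul_comm, aeval_mul_apply, k3, ← aeval_int (f := T1) (LinearMap.inl F U Q)
    (fun x => by simp [hT]), map_eq_zero_iff _ LinearMap.inl_injective, hv1] at hg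
  rw [mul_comm p2]
  exact mul_dvd_mul_right hg p2

theorem split_cyclic (f : End F V) (h0 : 0 < finrank F V) :
    ∃ (Z U : Submodule F V) (c : End F Z) (g : End F U), Cy c (minpoly F f) ∧
      0 < (minpoly F f).natDegree ∧ Sim f (c.prodMap g) ∧ aeval g (minpoly F f) = 0 := by
  haveI : Nontrivial V := Module.finrank_pos_iff.mp h0
  have hint : IsIntegral F f := Algebra.IsIntegral.isIntegral f
  have hp := minpoly.monic hint
  have hm0 := minpoly.natDegree_pos hint
  set p := minpoly F f with hpdef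
  haveI := hp.finite_adjoinRoot
  obtain ⟨m, hm⟩ : ∃ m, p.natDegree = m + 1 := ⟨p.natDegree - 1, by omega⟩
  have hp1 : p ≠ 1 := by intro e; rw [e] at hm0; simp at hm0
  obtain ⟨v, hv⟩ := exists_ann f
  obtain ⟨l, hl⟩ := exists_fun hp hv m
  obtain ⟨L, hL⟩ := exists_L hp ((hv p).mpr dvd_rfl)
  have hLi := L_inj (fun g => (hv g).mp) hL
  let ψ : V →ₗ[F] (Fin (m + 1) → F) := LinearMap.pi (fun i => l ∘ₗ (f ^ (i : ℕ)))
  have hψ : ∀ u, u ∈ LinearMap.ker ψ ↔ ∀ i < m + 1, l ((f ^ i) u) = 0 := fun u =>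
    ⟨fun h i hi => congrFun (LinearMap.mem_ker.mp h) ⟨i, hi⟩, fun h => funext fun i => h i i.2⟩
  have hψ' : ∀ u ∈ LinearMap.ker ψ, ∀ g : F[X], l (aeval f g u) = 0 := by
    intro u hu g
    rw [← aeval_modByMonic_eq_self_of_root (minpoly.aeval F f), aeval_eq_sum_range'
      (n := m + 1) (by
        rw [← hm]; exact natDegree_modByMonic_lt g hp hp1),
      LinearMap.sum_apply, map_sum]
    exact Finset.sum_eq_zero (fun i hi => by
      rw [LinearMap.smul_apply, map_smul, (hψ u).mp hu i (Finset.mem_range.mp hi), smul_zero])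
  have hU : ∀ u ∈ LinearMap.ker ψ, f u ∈ LinearMap.ker ψ := fun u hu => (hψ _).mpr fun i _ => by
    have := hψ' u hu (X ^ i * X)
    rwa [aeval_mul_apply, map_pow, aeval_X] at this
  have hZ : ∀ z ∈ LinearMap.range L, f z ∈ LinearMap.range L := by
    rintro _ ⟨x, rfl⟩
    obtain ⟨g, rfl⟩ := AdjoinRoot.mk_surjective x
    exact ⟨AdjoinRoot.mk p (X * g), by rw [hL, hL, aeval_mul_apply, aeval_X]⟩
  have hdZ : finrank F (LinearMap.range L) = m + 1 := by
    rw [LinearMap.finrank_range_of_inj hLi, finrank_adj hp, hm]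
  have hdis : Disjoint (LinearMap.range L) (LinearMap.ker ψ) := by
    rw [Submodule.disjoint_def]
    rintro _ ⟨x, rfl⟩ hx
    obtain ⟨g, rfl⟩ := AdjoinRoot.mk_surjective x
    have e1 : AdjoinRoot.mk p g = AdjoinRoot.mk p (g %ₘ p) :=
      (AdjoinRoot.mk_leftInverse hp (AdjoinRoot.mk p g)).symm
    rw [e1] at hx ⊢
    have hlt : (g %ₘ p).natDegree < m + 1 := by
      rw [← hm]; exact natDegree_modByMonic_lt g hp hp1
    generalize g %ₘ p = k at hx hlt ⊢
    have := hψ' _ hx (X ^ (m - k.natDegree))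
    rw [hL, ← aeval_mul_apply, hl, (modByMonic_eq_self_iff hp).mpr (degree_lt_degree (by
      refine natDegree_mul_le.trans_lt ?_
      rw [natDegree_X_pow]; omega)), coeff_X_pow_mul', if_pos (by omega),
      show m - (m - k.natDegree) = k.natDegree by omega, coeff_natDegree, leadingCoeff_eq_zero] at this
    rw [this]; simp
  have hc : IsCompl (LinearMap.range L) (LinearMap.ker ψ) := by
    refine ⟨hdis, codisjoint_iff.mpr (Submodule.eq_top_of_finrank_eq ?_)⟩
    have a1 := Submodule.finrank_sup_add_finrank_inf_eq (LinearMap.range L) (LinearMap.ker ψ)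
    have a2 := ψ.finrank_range_add_finrank_ker
    have a3 := Submodule.finrank_le (LinearMap.range ψ)
    have a4 := Submodule.finrank_le (LinearMap.range L ⊔ LinearMap.ker ψ)
    rw [hdis.eq_bot, finrank_bot] at a1
    simp only [finrank_fintype_fun_eq_card, Fintype.card_fin] at a3
    omega
  have hv' : v ∈ LinearMap.range L := ⟨AdjoinRoot.mk p 1, by rw [hL]; simp⟩
  refine ⟨LinearMap.range L, LinearMap.ker ψ, f.restrict hZ, f.restrict hU,
    ⟨hp, by rw [hdZ, hm], ⟨v, hv'⟩, fun g => ?_⟩, hm0,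
    Sim.symm ⟨Submodule.prodEquivOfIsCompl _ _ hc, fun x => by simp⟩, ?_⟩
  · rw [← hv, Subtype.ext_iff]
    exact Eq.congr_left (aeval_int (LinearMap.range L).subtype (fun _ => rfl) g ⟨v, hv'⟩)
  · ext x
    have := aeval_int (f := f.restrict hU) (g := f) (LinearMap.ker ψ).subtype (fun _ => rfl) p x
    rw [minpoly.aeval] at this
    simpa using this

theorem cyclic_ind (μ : F[X])
    (P : ∀ (V : Type u) [AddCommGroup V] [Module F V] [FiniteDimensional F V], End F V → Prop)
    (hsim : ∀ (V W : Type u) [AddCommGroup V] [Module F V] [FiniteDimensional F V]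
      [AddCommGroup W] [Module F W] [FiniteDimensional F W] (f : End F V) (g : End F W),
      Sim f g → P W g → P V f)
    (h0 : ∀ (V : Type u) [AddCommGroup V] [Module F V] [FiniteDimensional F V] (f : End F V),
      Subsingleton V → P V f)
    (hs : ∀ (V W : Type u) [AddCommGroup V] [Module F V] [FiniteDimensional F V]
      [AddCommGroup W] [Module F W] [FiniteDimensional F W] (c : End F V) (p : F[X]) (g : End F W),
      Cy c p → 0 < p.natDegree → p ∣ μ → P W g → P (V × W) (c.prodMap g))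
    (f : End F V) (hf : aeval f μ = 0) : P V f := by
  suffices H : ∀ n (V : Type u) [AddCommGroup V] [Module F V] [FiniteDimensional F V]
      (f : End F V), finrank F V = n → aeval f μ = 0 → P V f from H _ V f rfl hf
  intro n
  induction n using Nat.strong_induction_on with
  | _ n ih =>
    intro V _ _ _ f hn hf
    rcases Nat.eq_zero_or_pos n with rfl | hpos
    · exact h0 V f (Module.finrank_zero_iff.mp hn)
    obtain ⟨Z, U, c, g, h1, h2, h3, h4⟩ := split_cyclic f (by omega)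
    have h5 := minpoly.dvd F f hf
    refine hsim _ _ _ _ h3 (hs _ _ c _ g h1 h2 h5 (ih _ ?_ U g rfl ?_))
    · have := h3.finrank
      rw [finrank_prod, ← h1.2.1] at this
      omega
    · obtain ⟨k, rfl⟩ := h5
      rw [map_mul, h4, zero_mul]

end Cfsg.Agent.Com
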