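import Mathlib
import Cfsg.Agent.Elu.Cmt1

/-! Factorisations of cyclic endomorphisms with prescribed characteristic polynomials. -/

set_option autoImplicit false
set_option backward.isDefEq.respectTransparency false

namespace Cfsg.Agent.Com

open Polynomial Module

universe u

variable {F : Type u} [Field F]
variable {V : Type u} [AddCommGroup V] [Module F V]

/-- A basis indexed by natural numbers below `n`, with its coordinates. -/
structure Fr (n : ℕ) (E : ℕ → V) (c : ℕ → V →ₗ[F] F) : Prop where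
  hc : ∀ i j, i < n → c j (E i) = if j = i then 1 else 0
  ext : ∀ x, x = ∑ i ∈ Finset.range n, c i x • E i

variable {n : ℕ} {E : ℕ → V} {c : ℕ → V →ₗ[F] F}

theorem Fr.map_eq (h : Fr n E c) {M : Type u} [AddCommGroup M] [Module F M] (φ : V →ₗ[F] M) (x : V) :
    φ x = ∑ i ∈ Finset.range n, c i x • φ (E i) := by
  conv_lhs => rw [h.ext x]
  simp [map_sum]

theorem Fr.hom_ext (h : Fr n E c) {M : Type u} [AddCommGroup M] [Module F M] {φ ψ : V →ₗ[F] M}
    (e : ∀ i < n, φ (E i) = ψ (E i)) : φ = ψ := by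
  ext x
  rw [h.map_eq φ, h.map_eq ψ]
  exact Finset.sum_congr rfl (fun i hi => by rw [e i (Finset.mem_range.mp hi)])

theorem Fr.constr (h : Fr n E c) (w : ℕ → V) : ∃ T : End F V, ∀ i < n, T (E i) = w i := by
  refine ⟨∑ j ∈ Finset.range n, (c j).smulRight (w j), fun i hi => ?_⟩
  simp [LinearMap.sum_apply, h.hc i _ hi, hi]

/-- The flag attached to the basis. -/
def fl (c : ℕ → V →ₗ[F] F) (k : ℕ) : Submodule F V := ⨅ j, ⨅ (_ : k ≤ j), LinearMap.ker (c j)

theorem mem_fl {k : ℕ} {x : V} : x ∈ fl c k ↔ ∀ j, k ≤ j → c j x = 0 := by simp [fl]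

theorem Fr.mem_fl (h : Fr n E c) {i k : ℕ} (hi : i < n) (hk : i < k) : E i ∈ fl c k :=
  Com.mem_fl.mpr (fun j hj => by rw [h.hc i j hi, if_neg (by omega)])

theorem Fr.map_fl (h : Fr n E c) {T : End F V} {k : ℕ} {S : Submodule F V}
    (hT : ∀ i < n, i < k → T (E i) ∈ S) {x : V} (hx : x ∈ fl c k) : T x ∈ S := by
  rw [h.map_eq T x]
  refine S.sum_mem (fun i hi => ?_)
  by_cases e : i < k
  · exact S.smul_mem _ (hT i (Finset.mem_range.mp hi) e)
  · rw [Com.mem_fl.mp hx i (by omega), zero_smul]; exact S.zero_mem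

theorem Fr.bidiag (h : Fr n E c) {T : End F V} {t : ℕ → F} {K : ℕ} (hK : K ≤ n)
    (hT : ∀ i < K, T (E i) = t i • E i + if i = 0 then 0 else E (i - 1)) :
    ∀ k < K, ∀ g : F[X], aeval T g (E k) = 0 → ∏ i ∈ Finset.range (k + 1), (X - C (t i)) ∣ g := by
  have hinv : ∀ k ≤ K, fl c k ≤ (fl c k).comap T := fun k hk x hx => h.map_fl (fun i hi hik => by
    rw [hT i (by omega)]
    refine Submodule.add_mem _ (Submodule.smul_mem _ _ (h.mem_fl hi hik)) ?_
    split_ifs
    · exact Submodule.zero_mem _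
    · exact h.mem_fl (by omega) (by omega)) hx
  have key : ∀ k < K, ∀ g : F[X], aeval T g (E k) = 0 → ∃ g1, g = (X - C (t k)) * g1 ∧
      aeval T g1 (if k = 0 then 0 else E (k - 1)) = 0 := by
    intro k hk g hg
    have e := (X_sub_C_mul_divByMonic_eq_sub_modByMonic g (t k))
    rw [modByMonic_X_sub_C_eq_C_eval] at e
    have e1 : aeval T (X - C (t k)) (E k) = if k = 0 then 0 else E (k - 1) := by
      simp [hT k hk]
    have e2 : aeval T (g /ₘ (X - C (t k))) (if k = 0 then 0 else E (k - 1)) = -(g.eval (t k) • E k) := by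
      rw [← e1, ← aeval_mul_apply, mul_comm, e]
      simp [hg]
    have m : (if k = 0 then 0 else E (k - 1)) ∈ fl c k := by
      split_ifs
      · exact Submodule.zero_mem _
      · exact h.mem_fl (by omega) (by omega)
    have m2 := Com.mem_fl.mp (aeval_apply_smul_mem_of_le_comap m (g /ₘ (X - C (t k))) T
      (hinv k hk.le)) k le_rfl
    rw [e2, map_neg, map_smul, h.hc k k (by omega), if_pos rfl] at m2
    have e3 : g.eval (t k) = 0 := by simpa using m2
    exact ⟨_, by rw [e, e3]; simp, by rw [e2, e3]; simp⟩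
  intro k
  induction k with
  | zero =>
    intro hk g hg
    obtain ⟨g1, rfl, -⟩ := key 0 hk g hg
    simp
  | succ k ih =>
    intro hk g hg
    obtain ⟨g1, rfl, h1⟩ := key _ hk g hg
    rw [Finset.prod_range_succ, mul_comm]
    exact mul_dvd_mul_left _ (ih (by omega) g1 (by simpa using h1))

variable [FiniteDimensional F V]

theorem Cy.frame {A : End F V} {f : F[X]} (h : Cy A f) :
    ∃ (E : ℕ → V) (c : ℕ → V →ₗ[F] F), Fr (finrank F V) E c ∧
      ∀ i, i + 1 < finrank F V → A (E i) = E (i + 1) := by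
  obtain ⟨hp, hd, v, hv⟩ := h
  obtain ⟨e, he⟩ := cy_equiv hp hd hv
  have hlt : ∀ i < finrank F V, (X ^ i : F[X]) %ₘ f = X ^ i := fun i hi =>
    (modByMonic_eq_self_iff hp).mpr (by
      rw [degree_X_pow, degree_eq_natDegree hp.ne_zero]; exact_mod_cast (by omega))
  choose c hc using exists_fun hp hv
  have hE : ∀ i, aeval A (X ^ i : F[X]) v = (A ^ i) v := fun i => by simp
  refine ⟨fun i => (A ^ i) v, c, ⟨fun i j hi => ?_, fun x => ?_⟩, fun i _ => by
    simp [pow_succ']⟩
  · rw [← hE, hc, hlt i hi, coeff_X_pow]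
  · obtain ⟨x, rfl⟩ := e.surjective x
    obtain ⟨g, rfl⟩ := AdjoinRoot.mk_surjective x
    simp only [he, hc]
    rcases Nat.eq_zero_or_pos (finrank F V) with h0 | h0
    · haveI : Subsingleton V := Module.finrank_zero_iff.mp h0
      exact Subsingleton.elim _ _
    have e1 : aeval A g v = aeval A (g %ₘ f) v := by
      rw [← he, ← he]
      exact congrArg e (AdjoinRoot.mk_leftInverse hp (AdjoinRoot.mk f g)).symm
    rw [e1, aeval_eq_sum_range' (n := finrank F V) (by
      rw [← hd]; exact natDegree_modByMonic_lt g hp (by rintro rfl; simp at hd; omega)),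
      LinearMap.sum_apply]
    rfl

theorem Fr.place (h : Fr (n + 1) E c) (hn : finrank F V = n + 1) (H0 : End F V)
    (h1 : ∀ i < n, H0 (E i) ∈ fl c (i + 2)) (h2 : ∀ i < n, c (i + 1) (H0 (E i)) ≠ 0)
    {p : F[X]} (hp : p.Monic) (hd : p.natDegree = n + 1) :
    ∃ u, Cy (H0 + (c n).smulRight u) p := by
  have hmono : ∀ {a b : ℕ}, a ≤ b → fl c a ≤ fl c b := fun hab x hx =>
    Com.mem_fl.mpr (fun j hj => Com.mem_fl.mp hx j (by omega))
  have K : ∀ i ≤ n, (H0 ^ i) (E 0) ∈ fl c (i + 1) ∧ c i ((H0 ^ i) (E 0)) ≠ 0 := by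
    intro i
    induction i with
    | zero => intro _; exact ⟨h.mem_fl (by omega) (by omega), by simp [h.hc 0 0 (by omega)]⟩
    | succ i ih =>
      intro hi
      obtain ⟨a1, a2⟩ := ih (by omega)
      rw [pow_succ', End.mul_apply]
      refine ⟨h.map_fl (fun j _ hj => hmono (by omega) (h1 j (by omega))) a1, ?_⟩
      have := h.map_eq (c (i + 1) ∘ₗ H0) ((H0 ^ i) (E 0))
      rw [LinearMap.comp_apply, Finset.sum_eq_single i (fun j _ hj => by
        rcases lt_or_gt_of_ne hj with e | e
        · rw [LinearMap.comp_apply, Com.mem_fl.mp (h1 j (by omega)) (i + 1) (by omega), smul_zero]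
        · rw [Com.mem_fl.mp a1 j (by omega), zero_smul]) (fun e => by simp at e; omega)] at this
      rw [this]
      exact mul_ne_zero a2 (h2 i (by omega))
  refine ⟨(c n ((H0 ^ n) (E 0)))⁻¹ • (-(∑ i ∈ Finset.range (n + 1), p.coeff i • (H0 ^ i) (E 0)) -
    H0 ((H0 ^ n) (E 0))), ?_⟩
  set H := H0 + (c n).smulRight ((c n ((H0 ^ n) (E 0)))⁻¹ •
    (-(∑ i ∈ Finset.range (n + 1), p.coeff i • (H0 ^ i) (E 0)) - H0 ((H0 ^ n) (E 0)))) with hH
  have k1 : ∀ i ≤ n, (H ^ i) (E 0) = (H0 ^ i) (E 0) := by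
    intro i hi
    induction i with
    | zero => rfl
    | succ i ih =>
      rw [pow_succ', End.mul_apply, ih (by omega), pow_succ', End.mul_apply, hH,
        LinearMap.add_apply, LinearMap.smulRight_apply, Com.mem_fl.mp (K i (by omega)).1 n (by omega),
        zero_smul, add_zero]
  refine cy_of_gen hp (hd.trans hn.symm) (v := E 0) ?_ ?_
  · rw [aeval_eq_sum_range, hd, Finset.sum_range_succ, LinearMap.add_apply, LinearMap.sum_apply,
      Finset.sum_congr rfl (fun i hi => by
        rw [LinearMap.smul_apply, k1 i (by simpa [Nat.lt_succ_iff] using hi)]),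
      ← hd, hp.coeff_natDegree, hd, one_smul, pow_succ', End.mul_apply, k1 n le_rfl, hH,
      LinearMap.add_apply, LinearMap.smulRight_apply, smul_smul, mul_inv_cancel₀ (K n le_rfl).2]
    module
  · have S : ∀ i ≤ n + 1, ∀ x ∈ fl c i, ∃ g : F[X], aeval H g (E 0) = x := by
      intro i
      induction i with
      | zero =>
        intro _ x hx
        refine ⟨0, ?_⟩
        rw [h.ext x, Finset.sum_eq_zero (fun j _ => by rw [Com.mem_fl.mp hx j (by omega), zero_smul])]
        simp
      | succ i ih =>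
        intro hi x hx
        obtain ⟨a1, a2⟩ := K i (by omega)
        obtain ⟨g, hg⟩ := ih (by omega) (x - (c i x / c i ((H0 ^ i) (E 0))) • (H0 ^ i) (E 0))
          (Com.mem_fl.mpr (fun j hj => by
            rcases eq_or_lt_of_le hj with rfl | e
            · simp [a2]
            · simp [Com.mem_fl.mp hx j e, Com.mem_fl.mp a1 j e]))
        refine ⟨g + C (c i x / c i ((H0 ^ i) (E 0))) * X ^ i, ?_⟩
        simp [hg, k1 i (by omega)]
    intro x
    refine S _ le_rfl x (Com.mem_fl.mpr (fun j hj => ?_))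
    rw [h.map_eq (c j) x]
    exact Finset.sum_eq_zero (fun i hi => by
      rw [h.hc i j (Finset.mem_range.mp hi), if_neg (by have := Finset.mem_range.mp hi; omega),
        smul_zero])

theorem Fr.cy_restrict (h : Fr n E c) {T : End F V} {t : ℕ → F} {k : ℕ} (hk : k ≤ n)
    (hT : ∀ i < k, T (E i) = t i • E i + if i = 0 then 0 else E (i - 1)) (U : Submodule F V)
    (hU : ∀ x ∈ U, T x ∈ U) (hd : finrank F U = k) (hE : ∀ i < k, E i ∈ U) :
    Cy (T.restrict hU) (∏ i ∈ Finset.range k, (X - C (t i))) := by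
  refine cy_of_dvd (monic_prod_X_sub_C _ _) (by rw [natDegree_finsetProd_X_sub_C_eq_card, hd]; simp)
    (fun g hg => ?_)
  rcases k with _ | k
  · simp
  refine h.bidiag hk hT k (by omega) g ?_
  have := aeval_int (f := T.restrict hU) (g := T) U.subtype (fun _ => rfl) g ⟨E k, hE k (by omega)⟩
  rw [hg] at this
  exact this.symm

theorem cy_one (a : F) : Cy (a • LinearMap.id : End F F) (X - C a) :=
  cy_of_gen (monic_X_sub_C a) (by simp) (v := 1) (by simp) (fun w => ⟨C w, by simp⟩)

/-- The monic quadratic with trace `s` and determinant `δ`. -/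
noncomputable def qd (s δ : F) : F[X] := X ^ 2 - C s * X + C δ

theorem qd_monic (s δ : F) : (qd s δ).Monic := by unfold qd; monicity!

theorem qd_natDegree (s δ : F) : (qd s δ).natDegree = 2 := by unfold qd; compute_degree!

theorem dt_qd (s δ : F) : dt (qd s δ) = δ := by rw [dt, qd_natDegree]; simp [qd]

theorem eval_qd (s δ a : F) : (qd s δ).eval a = a ^ 2 - s * a + δ := by simp [qd]

/-- A non-scalar two by two matrix. -/
def m2 (α β γ : F) : End F (F × F) :=
  (α • LinearMap.fst F F F + β • LinearMap.snd F F F).prod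
    (LinearMap.fst F F F + γ • LinearMap.snd F F F)

@[simp] theorem m2_apply (α β γ : F) (x : F × F) :
    m2 α β γ x = (α * x.1 + β * x.2, x.1 + γ * x.2) := rfl

theorem cy_m2 (α β γ : F) : Cy (m2 α β γ) (qd (α + γ) (α * γ - β)) := by
  refine cy_of_gen (qd_monic _ _) (by simp [qd_natDegree]) (v := (1, 0)) ?_
    (fun w => ⟨C (w.1 - α * w.2) + C w.2 * X, ?_⟩)
  · simp [qd, pow_two]; ring
  · ext <;> simp; ring

/-- `A * T = X` with `T`, `X` cyclic with the given polynomials. -/
def Rz (A : End F V) (τ p : F[X]) : Prop := ∃ T : End F V, Cy T τ ∧ Cy (A * T) p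

theorem dt_prod (t : ℕ → F) (k : ℕ) :
    dt (∏ i ∈ Finset.range k, (X - C (t i))) = ∏ i ∈ Finset.range k, t i := by
  induction k with
  | zero => simp [dt_one]
  | succ k ih => rw [Finset.prod_range_succ, Finset.prod_range_succ,
      dt_mul (monic_prod_X_sub_C _ _) (monic_X_sub_C _), ih, dt_X_sub_C]

theorem rz_one {A : End F V} {f : F[X]} (hA : Cy A f) (hd : dt f ≠ 0) {k : ℕ}
    (hn : finrank F V = k + 1) (t : ℕ → F) (ht : ∀ i < k, t i ≠ 0) (a : F)
    (hc : IsCoprime (∏ i ∈ Finset.range k, (X - C (t i))) (X - C a)) {p : F[X]} (hp : p.Monic)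
    (hpd : p.natDegree = k + 1) (hdt : dt p = dt f * ((∏ i ∈ Finset.range k, t i) * a)) :
    Rz A ((∏ i ∈ Finset.range k, (X - C (t i))) * (X - C a)) p := by
  obtain ⟨E, c, h, hs⟩ := hA.frame
  rw [hn] at h hs
  obtain ⟨T0, hT0⟩ := h.constr (fun i => t i • E i + if i = 0 then 0 else E (i - 1))
  have hA0 : ∀ i < k, A (T0 (E i)) = t i • E (i + 1) + if i = 0 then 0 else E i := by
    intro i hi
    rw [hT0 i (by omega), map_add, map_smul, hs i (by omega)]
    split_ifs with e
    · simp
    · rw [hs _ (by omega), show i - 1 + 1 = i by omega]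
  obtain ⟨u, hu⟩ := h.place hn (A * T0) (fun i hi => by
    rw [End.mul_apply, hA0 i hi]
    refine Submodule.add_mem _ (Submodule.smul_mem _ _ (h.mem_fl (by omega) (by omega))) ?_
    split_ifs
    · exact Submodule.zero_mem _
    · exact h.mem_fl (by omega) (by omega)) (fun i hi => by
    rw [End.mul_apply, hA0 i hi, map_add, map_smul, h.hc _ _ (by omega), if_pos rfl]
    split_ifs
    · simpa using ht i hi
    · rw [h.hc _ _ (by omega), if_neg (by omega)]; simpa using ht i hi) hp hpd
  have hu0 : IsUnit (LinearMap.det A) := by rw [hA.det]; exact hd.isUnit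
  obtain ⟨u, rfl⟩ := (LinearMap.equivOfIsUnitDet hu0).surjective u
  have e1 : A * T0 + (c k).smulRight (LinearMap.equivOfIsUnitDet hu0 u) =
      A * (T0 + (c k).smulRight u) := by
    ext x; simp
  rw [e1] at hu
  set T := T0 + (c k).smulRight u with hT
  have hTi : ∀ i < k, T (E i) = t i • E i + if i = 0 then 0 else E (i - 1) := fun i hi => by
    simp [hT, hT0 i (by omega), h.hc i k (by omega), show k ≠ i by omega]
  have hπ : Function.Surjective (c k) := fun y => ⟨y • E k, by simp [h.hc k k (by omega)]⟩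
  have e2 : ∀ x, c k (T x) = (c k (T (E k)) • LinearMap.id : End F F) (c k x) := by
    have : c k ∘ₗ T = (c k (T (E k)) • LinearMap.id : End F F) ∘ₗ c k := h.hom_ext (fun i hi => by
      rcases eq_or_lt_of_le (Nat.lt_succ_iff.mp hi) with rfl | e
      · simp [h.hc i i (by omega)]
      · simp only [LinearMap.comp_apply, hTi i e, map_add, map_smul, h.hc i k (by omega),
          if_neg (show k ≠ i by omega)]
        split_ifs
        · simp
        · simp [h.hc (i - 1) k (by omega), show k ≠ i - 1 by omega])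
    exact fun x => LinearMap.congr_fun this x
  have hU : ∀ x ∈ LinearMap.ker (c k), T x ∈ LinearMap.ker (c k) := fun x hx => by
    rw [LinearMap.mem_ker, e2, LinearMap.mem_ker.mp hx, map_zero]
  have hdU : finrank F (LinearMap.ker (c k)) = k := by
    have := (c k).finrank_range_add_finrank_ker
    rw [LinearMap.range_eq_top.mpr hπ, finrank_top, finrank_self] at this
    omega
  have c1 := h.cy_restrict (by omega) hTi _ hU hdU (fun i hi => by
    rw [LinearMap.mem_ker, h.hc i k (by omega), if_neg (by omega)])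
  have d1 := det_ses (LinearMap.ker (c k)).subtype (c k) Subtype.val_injective hπ
    (T1 := T.restrict hU) (fun _ => rfl) e2 (fun x => x.2) (by rw [hdU, hn]; simp)
  have d2 := hu.det
  rw [map_mul, hA.det, d1, c1.det, (cy_one _).det, dt_X_sub_C, hdt, dt_prod] at d2
  have d3 := mul_left_cancel₀ (Finset.prod_ne_zero_iff.mpr (fun i hi => ht i (Finset.mem_range.mp hi)))
    (mul_left_cancel₀ hd d2)
  rw [d3] at e2
  exact ⟨T, cy_ses c1 (cy_one a) hc (LinearMap.ker (c k)).subtype (c k) Subtype.val_injective hπ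
    (fun _ => rfl) e2 (by rw [hdU, hn]; simp), hu⟩

theorem rz_two {A : End F V} {f : F[X]} (hA : Cy A f) (hd : dt f ≠ 0) {k : ℕ}
    (hn : finrank F V = k + 3) (t : ℕ → F) (ht : ∀ i < k + 1, t i ≠ 0) (s δ : F)
    (hc : IsCoprime (∏ i ∈ Finset.range (k + 1), (X - C (t i))) (qd s δ)) {p : F[X]} (hp : p.Monic)
    (hpd : p.natDegree = k + 3) (hdt : dt p = dt f * ((∏ i ∈ Finset.range (k + 1), t i) * δ)) :
    Rz A ((∏ i ∈ Finset.range (k + 1), (X - C (t i))) * qd s δ) p := by
  obtain ⟨E, c, h, hs⟩ := hA.frame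
  rw [hn] at h hs
  set τ := c (k + 2) (A (E (k + 2))) with hτ
  obtain ⟨T0, hT0⟩ := h.constr (fun i => if i = k + 2 then 0 else if i = k + 1 then
    (1 - τ) • E (k + 1) + E (k + 2) else t i • E i + if i = 0 then 0 else E (i - 1))
  set σ : F := -p.nextCoeff - LinearMap.trace F V (A * T0) - (s - (1 - τ) - δ) with hσ
  set T1 := T0 + (c (k + 1)).smulRight (σ • E k) with hT1
  have hTi1 : ∀ i < k + 1, T1 (E i) = t i • E i + if i = 0 then 0 else E (i - 1) := fun i hi => by
    simp [hT1, hT0 i (by omega), h.hc i (k + 1) (by omega), show k + 1 ≠ i by omega,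
      show i ≠ k + 1 by omega, show i ≠ k + 2 by omega]
  have hTk1 : T1 (E (k + 1)) = (1 - τ) • E (k + 1) + E (k + 2) + σ • E k := by
    simp [hT1, hT0 (k + 1) (by omega), h.hc (k + 1) (k + 1) (by omega)]
  have hTk2 : T1 (E (k + 2)) = 0 := by
    simp [hT1, hT0 (k + 2) (by omega), h.hc (k + 2) (k + 1) (by omega)]
  have hA0 : ∀ i < k + 1, A (T1 (E i)) = t i • E (i + 1) + if i = 0 then 0 else E i := by
    intro i hi
    rw [hTi1 i (by omega), map_add, map_smul, hs i (by omega)]
    split_ifs with e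
    · simp
    · rw [hs _ (by omega), show i - 1 + 1 = i by omega]
  obtain ⟨u, hu⟩ := h.place (n := k + 2) hn (A * T1) (fun i hi => by
    rcases eq_or_lt_of_le (Nat.lt_succ_iff.mp hi) with rfl | e
    · refine Com.mem_fl.mpr (fun j hj => ?_)
      rw [h.map_eq (c j)]
      exact Finset.sum_eq_zero (fun i hi => by
        rw [h.hc i j (Finset.mem_range.mp hi), if_neg (by have := Finset.mem_range.mp hi; omega),
          smul_zero])
    rw [End.mul_apply, hA0 i e]
    refine Submodule.add_mem _ (Submodule.smul_mem _ _ (h.mem_fl (by omega) (by omega))) ?_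
    split_ifs
    · exact Submodule.zero_mem _
    · exact h.mem_fl (by omega) (by omega)) (fun i hi => by
    rcases eq_or_lt_of_le (Nat.lt_succ_iff.mp hi) with rfl | e
    · simp [hTk1, hs (k + 1) (by omega), hs k (by omega), ← hτ, h.hc (k + 2) (k + 2) (by omega),
        h.hc (k + 1) (k + 2) (by omega)]
    rw [End.mul_apply, hA0 i e, map_add, map_smul, h.hc _ _ (by omega), if_pos rfl]
    split_ifs
    · simpa using ht i e
    · rw [h.hc _ _ (by omega), if_neg (by omega)]; simpa using ht i e) hp hpd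
  have hu0 : IsUnit (LinearMap.det A) := by rw [hA.det]; exact hd.isUnit
  obtain ⟨u, rfl⟩ := (LinearMap.equivOfIsUnitDet hu0).surjective u
  rw [LinearMap.equivOfIsUnitDet_apply] at hu
  have tr := hu.trace
  have e0 : A * T1 = A * T0 + (c (k + 1)).smulRight (σ • E (k + 1)) := by
    ext x; simp [hT1, hs k (by omega)]
  have e3 : c (k + 2) (A u) = c (k + 1) u + c (k + 2) u * τ := by
    have : c (k + 2) ∘ₗ A = c (k + 1) + τ • c (k + 2) := h.hom_ext (fun i hi => by
      rcases eq_or_lt_of_le (Nat.lt_succ_iff.mp hi) with rfl | e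
      · simp [← hτ, h.hc (k + 2) _ (by omega)]
      · simp [hs i (by omega), h.hc (i + 1) _ (by omega), h.hc i _ (by omega),
          show k + 2 ≠ i by omega])
    have := LinearMap.congr_fun this u
    simp only [LinearMap.comp_apply, LinearMap.add_apply, LinearMap.smul_apply, smul_eq_mul] at this
    rw [this]; ring
  rw [e0, map_add, map_add, LinearMap.trace_smulRight, LinearMap.trace_smulRight, e3, map_smul,
    h.hc _ _ (by omega), if_pos rfl, smul_eq_mul, mul_one] at tr
  have e1 : A * T1 + (c (k + 2)).smulRight (A u) = A * (T1 + (c (k + 2)).smulRight u) := by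
    ext x; simp
  rw [e1] at hu
  set T := T1 + (c (k + 2)).smulRight u with hT
  have hTi : ∀ i < k + 1, T (E i) = t i • E i + if i = 0 then 0 else E (i - 1) := fun i hi => by
    simp [hT, hTi1 i hi, h.hc i (k + 2) (by omega), show k + 2 ≠ i by omega]
  let π : V →ₗ[F] F × F := (c (k + 1)).prod (c (k + 2))
  have hπ : Function.Surjective π := fun y => ⟨y.1 • E (k + 1) + y.2 • E (k + 2), by
    simp [π, h.hc (k + 1) _ (by omega), h.hc (k + 2) _ (by omega)]⟩
  have hπ0 : ∀ i < k + 1, π (E i) = 0 := fun i hi => by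
    simp [π, h.hc i _ (by omega), show k + 1 ≠ i by omega, show k + 2 ≠ i by omega]
  have e2 : ∀ x, π (T x) = m2 (1 - τ) (c (k + 1) u) (c (k + 2) u) (π x) := by
    have : π ∘ₗ T = m2 (1 - τ) (c (k + 1) u) (c (k + 2) u) ∘ₗ π := h.hom_ext (fun i hi => by
      rcases eq_or_lt_of_le (Nat.lt_succ_iff.mp hi) with rfl | e
      · simp [π, hT, hTk2, h.hc (k + 2) _ (by omega)]
      rcases eq_or_lt_of_le (Nat.lt_succ_iff.mp e) with rfl | e
      · simp [π, hT, hTk1, h.hc (k + 2) _ (by omega), h.hc (k + 1) _ (by omega), h.hc k _ (by omega)]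
      · simp only [LinearMap.comp_apply, hTi i e, map_add, map_smul, hπ0 i e]
        split_ifs
        · simp [Prod.ext_iff]
        · simp [hπ0 (i - 1) (by omega), Prod.ext_iff])
    exact fun x => LinearMap.congr_fun this x
  have hU : ∀ x ∈ LinearMap.ker π, T x ∈ LinearMap.ker π := fun x hx => by
    rw [LinearMap.mem_ker, e2, LinearMap.mem_ker.mp hx, map_zero]
  have hdU : finrank F (LinearMap.ker π) = k + 1 := by
    have := π.finrank_range_add_finrank_ker
    rw [LinearMap.range_eq_top.mpr hπ, finrank_top, finrank_prod, finrank_self] at this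
    omega
  have c1 := h.cy_restrict (by omega) hTi _ hU hdU hπ0
  have d1 := det_ses (LinearMap.ker π).subtype π Subtype.val_injective hπ
    (T1 := T.restrict hU) (fun _ => rfl) e2 (fun x => x.2) (by rw [hdU, hn]; simp)
  have d2 := hu.det
  rw [map_mul, hA.det, d1, c1.det, (cy_m2 _ _ _).det, dt_qd, hdt, dt_prod] at d2
  have d3 := mul_left_cancel₀ (Finset.prod_ne_zero_iff.mpr (fun i hi => ht i (Finset.mem_range.mp hi)))
    (mul_left_cancel₀ hd d2)
  have c2 := cy_m2 (1 - τ) (c (k + 1) u) (c (k + 2) u)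
  rw [d3, show 1 - τ + c (k + 2) u = s by rw [hσ] at tr; linear_combination tr + d3] at c2
  exact ⟨T, cy_ses c1 c2 hc (LinearMap.ker π).subtype π Subtype.val_injective hπ
    (fun _ => rfl) e2 (by rw [hdU, hn]; simp), hu⟩

theorem Cy.inv {A : End F V} {f : F[X]} (hA : Cy A f) (hd : dt f ≠ 0) :
    ∃ (B : End F V) (g : F[X]), Cy B g ∧ dt g = (dt f)⁻¹ ∧
      ∀ τ p : F[X], Rz B p τ → Rz A τ p := by
  have hu0 : IsUnit (LinearMap.det A) := by rw [hA.det]; exact hd.isUnit
  let e := LinearMap.equivOfIsUnitDet hu0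
  have he : ∀ x, e x = A x := fun x => LinearMap.equivOfIsUnitDet_apply hu0 x
  obtain ⟨v, -, hv⟩ := hA.gen
  let B : End F V := e.symm
  have hAB : A * B = 1 := by ext x; exact (he _).symm.trans (e.apply_symm_apply x)
  have hc : Cy B B.charpoly := by
    refine cy_of_gen B.charpoly_monic B.charpoly_natDegree (v := v)
      (by rw [B.aeval_self_charpoly]; rfl) (fun w => ?_)
    let S : Submodule F V := LinearMap.range ((LinearMap.applyₗ v) ∘ₗ
      (aeval B : F[X] →ₐ[F] End F V).toLinearMap)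
    have h1 : ∀ x ∈ S, B x ∈ S := by
      rintro _ ⟨g, rfl⟩
      exact ⟨X * g, by simp⟩
    have h2 : S ≤ S.comap A := by
      intro x hx
      obtain ⟨y, hy⟩ := (LinearMap.injective_iff_surjective (f := B.restrict h1)).mp
        (fun a b hab => Subtype.ext (e.symm.injective (congrArg Subtype.val hab))) ⟨x, hx⟩
      have : x = e.symm y := (congrArg Subtype.val hy).symm
      rw [Submodule.mem_comap, this, ← he, e.apply_symm_apply]
      exact y.2
    obtain ⟨g, rfl⟩ := hv w
    exact aeval_apply_smul_mem_of_le_comap (q := S) ⟨1, by simp⟩ g A h2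
  refine ⟨B, _, hc, ?_, ?_⟩
  · have := congrArg LinearMap.det hAB
    rw [map_mul, map_one, hA.det, hc.det] at this
    exact eq_inv_of_mul_eq_one_right this
  · rintro τ p ⟨T, h1, h2⟩
    exact ⟨B * T, h2, by rwa [← mul_assoc, hAB, one_mul]⟩

end Cfsg.Agent.Com
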