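import Mathlib
import Cfsg.Agent.Elu.Cmt2

/-! Commutators in special linear groups: the gluing calculus. -/

set_option autoImplicit false
set_option backward.isDefEq.respectTransparency false

namespace Cfsg.Agent.Com

open Polynomial Module

universe u

variable {F : Type u} [Field F]
variable {V W U Q : Type u} [AddCommGroup V] [Module F V] [AddCommGroup W] [Module F W]
  [AddCommGroup U] [Module F U] [AddCommGroup Q] [Module F Q]

/-- The centraliser of `T` contains elements of every determinant. -/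
def Fl (T : End F V) : Prop :=
  ∀ c : F, c ≠ 0 → ∃ e : V ≃ₗ[F] V, LinearMap.det (e : V →ₗ[F] V) = c ∧ ∀ x, e (T x) = T (e x)

/-- `f T` is similar to `T`. -/
def Wk (f : End F V) (δ : F) : Prop := ∃ T : End F V, LinearMap.det T = δ ∧ Sim (f * T) T

/-- `f T` is similar to `T` through maps of every determinant. -/
def St (f : End F V) (δ : F) : Prop :=
  ∃ T : End F V, LinearMap.det T = δ ∧ Sim (f * T) T ∧ Fl T

/-- `f` is a commutator of maps of determinant one. -/
def Gd (f : End F V) : Prop := ∃ (T : End F V) (e : V ≃ₗ[F] V), LinearMap.det T = 1 ∧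
  LinearMap.det (e : V →ₗ[F] V) = 1 ∧ ∀ x, e (f (T x)) = T (e x)

/-- A scalar on the line. -/
abbrev sc (a : F) : End F F := a • LinearMap.id

/-- A link of a chain, possibly empty. -/
def Ch0 (f : End F V) (a a' t : F) : Prop := ∃ T : End F V, LinearMap.det T = t ∧
  Sim (T.prodMap (sc a')) ((f * T).prodMap (sc a))

/-- A link of a chain. -/
def Ch (f : End F V) (a a' t : F) : Prop :=
  ∃ (W : Type u) (_ : AddCommGroup W) (_ : Module F W) (_ : FiniteDimensional F W) (G : End F W)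
    (T : End F V), LinearMap.det T = t ∧ Sim T ((sc a).prodMap G) ∧ Sim (f * T) ((sc a').prodMap G)

theorem Sim.transport {f : End F V} {g : End F W} (h : Sim f g) (T : End F V) :
    ∃ T' : End F W, Sim T T' ∧ Sim (f * T) (g * T') := by
  obtain ⟨e, he⟩ := h
  exact ⟨e.conj T, ⟨e, fun x => by simp⟩, ⟨e, fun x => by simp [he]⟩⟩

theorem det_equiv_conj (e0 : V ≃ₗ[F] W) (e : V ≃ₗ[F] V) :
    LinearMap.det (((e0.symm.trans e).trans e0 : W ≃ₗ[F] W) : W →ₗ[F] W) =
      LinearMap.det (e : V →ₗ[F] V) := LinearMap.det_conj (e : V →ₗ[F] V) e0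

theorem Fl.sim {T : End F V} {T' : End F W} (h : Fl T) (hs : Sim T T') : Fl T' := by
  obtain ⟨e0, he0⟩ := hs
  intro c hc
  obtain ⟨e, h1, h2⟩ := h c hc
  refine ⟨(e0.symm.trans e).trans e0, (det_equiv_conj e0 e).trans h1, fun x => ?_⟩
  obtain ⟨x, rfl⟩ := e0.surjective x
  simp [← he0, h2]

theorem Wk.sim {f : End F V} {g : End F W} {δ : F} (h : Wk f δ) (hs : Sim f g) : Wk g δ := by
  obtain ⟨T, h1, h2⟩ := h
  obtain ⟨T', h3, h4⟩ := hs.transport T
  exact ⟨T', h3.det.symm.trans h1, (h4.symm.trans h2).trans h3⟩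

theorem St.sim {f : End F V} {g : End F W} {δ : F} (h : St f δ) (hs : Sim f g) : St g δ := by
  obtain ⟨T, h1, h2, h5⟩ := h
  obtain ⟨T', h3, h4⟩ := hs.transport T
  exact ⟨T', h3.det.symm.trans h1, (h4.symm.trans h2).trans h3, h5.sim h3⟩

theorem Gd.sim {f : End F V} {g : End F W} (h : Gd f) (hs : Sim f g) : Gd g := by
  obtain ⟨T, e, h1, h2, h3⟩ := h
  obtain ⟨e0, he0⟩ := hs
  refine ⟨e0.conj T, (e0.symm.trans e).trans e0, (LinearMap.det_conj T e0).trans h1,
    (det_equiv_conj e0 e).trans h2, fun x => ?_⟩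
  obtain ⟨x, rfl⟩ := e0.surjective x
  simp [← he0, h3]

theorem Ch0.sim {f : End F V} {g : End F W} {a a' t : F} (h : Ch0 f a a' t) (hs : Sim f g) :
    Ch0 g a a' t := by
  obtain ⟨T, h1, h2⟩ := h
  obtain ⟨T', h3, h4⟩ := hs.transport T
  exact ⟨T', h3.det.symm.trans h1,
    ((h3.symm.prod (Sim.refl _)).trans h2).trans (h4.prod (Sim.refl _))⟩

theorem Ch.sim {f : End F V} {g : End F W} {a a' t : F} (h : Ch f a a' t) (hs : Sim f g) :
    Ch g a a' t := by
  obtain ⟨W', _, _, _, G, T, h1, h2, h5⟩ := h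
  obtain ⟨T', h3, h4⟩ := hs.transport T
  exact ⟨W', _, _, inferInstance, G, T', h3.det.symm.trans h1, h3.symm.trans h2, h4.symm.trans h5⟩

theorem St.wk {f : End F V} {δ : F} (h : St f δ) : Wk f δ := by
  obtain ⟨T, h1, h2, -⟩ := h
  exact ⟨T, h1, h2⟩

theorem Gd.wk {f : End F V} (h : Gd f) : Wk f 1 := by
  obtain ⟨T, e, h1, -, h3⟩ := h
  exact ⟨T, h1, e, h3⟩

theorem St.gd {f : End F V} (h : St f 1) : Gd f := by
  obtain ⟨T, h1, ⟨e, he⟩, h3⟩ := h
  have hu : LinearMap.det (e : V →ₗ[F] V) ≠ 0 := (LinearEquiv.isUnit_det' e).ne_zero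
  obtain ⟨e', h4, h5⟩ := h3 _ (inv_ne_zero hu)
  refine ⟨T, e.trans e', h1, ?_, fun x => ?_⟩
  · rw [LinearEquiv.coe_trans, LinearMap.det_comp, h4, inv_mul_cancel₀ hu]
  · have := he x
    rw [End.mul_apply] at this
    simp [this, h5]

theorem Ch.ch0 {f : End F V} {a a' t : F} (h : Ch f a a' t) : Ch0 f a a' t := by
  obtain ⟨W', _, _, _, G, T, h1, h2, h3⟩ := h
  refine ⟨T, h1, (h2.prod (Sim.refl _)).trans (Sim.trans ?_ (h3.symm.prod (Sim.refl _)))⟩
  exact ((sim_assoc _ _ _).trans (sim_comm _ _)).trans ((sim_comm _ _).prod (Sim.refl _))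

theorem prodMap_mul (f T : End F V) (g T' : End F W) :
    (f.prodMap g : End F (V × W)) * T.prodMap T' = (f * T).prodMap (g * T') := rfl

variable [FiniteDimensional F V] [FiniteDimensional F W] [FiniteDimensional F U]
  [FiniteDimensional F Q]

theorem gd_id : Gd (LinearMap.id : End F V) :=
  ⟨LinearMap.id, LinearEquiv.refl F V, by simp, by simp, fun _ => rfl⟩

theorem gd_zero [Subsingleton V] (f : End F V) : Gd f := by
  rw [Subsingleton.elim f LinearMap.id]; exact gd_id

theorem ch0_zero [Subsingleton V] (f : End F V) (a : F) : Ch0 f a a 1 :=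
  ⟨LinearMap.id, LinearMap.det_id, by rw [Subsingleton.elim (f * LinearMap.id) LinearMap.id]; exact Sim.refl _⟩

theorem Fl.prod {T : End F V} (h : Fl T) (T' : End F W) : Fl (T.prodMap T') := by
  intro c hc
  obtain ⟨e, h1, h2⟩ := h c hc
  refine ⟨e.prodCongr (LinearEquiv.refl F W), ?_, fun x => by simp [h2]⟩
  rw [LinearEquiv.coe_prodCongr, LinearMap.det_prodMap, h1]; simp

theorem Wk.prod {f : End F V} {g : End F W} {δ δ' : F} (h : Wk f δ) (h' : Wk g δ') :
    Wk (f.prodMap g) (δ * δ') := by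
  obtain ⟨T, h1, h2⟩ := h
  obtain ⟨T', h3, h4⟩ := h'
  exact ⟨T.prodMap T', by rw [LinearMap.det_prodMap, h1, h3], h2.prod h4⟩

theorem St.prod {f : End F V} {g : End F W} {δ δ' : F} (h : St f δ) (h' : Wk g δ') :
    St (f.prodMap g) (δ * δ') := by
  obtain ⟨T, h1, h2, h5⟩ := h
  obtain ⟨T', h3, h4⟩ := h'
  exact ⟨T.prodMap T', by rw [LinearMap.det_prodMap, h1, h3], h2.prod h4, h5.prod _⟩

theorem Gd.prod {f : End F V} {g : End F W} (h : Gd f) (h' : Gd g) : Gd (f.prodMap g) := by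
  obtain ⟨T, e, h1, h2, h3⟩ := h
  obtain ⟨T', e', h4, h5, h6⟩ := h'
  refine ⟨T.prodMap T', e.prodCongr e', by rw [LinearMap.det_prodMap, h1, h4, mul_one], ?_,
    fun x => by simp [h3, h6]⟩
  rw [LinearEquiv.coe_prodCongr, LinearMap.det_prodMap, h2, h5, mul_one]

theorem Ch0.prod {f : End F V} {g : End F W} {a a' a'' t t' : F} (h : Ch0 f a a' t)
    (h' : Ch0 g a' a'' t') : Ch0 (f.prodMap g) a a'' (t * t') := by
  obtain ⟨T, h1, h2⟩ := h
  obtain ⟨T', h3, h4⟩ := h'
  refine ⟨T.prodMap T', by rw [LinearMap.det_prodMap, h1, h3], ?_⟩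
  rw [prodMap_mul]
  refine ((sim_assoc _ _ _).trans ((Sim.refl T).prod (h4.trans (sim_comm _ _)))).trans ?_
  refine ((sim_assoc T (sc a') (g * T')).symm.trans (h2.prod (Sim.refl (g * T')))).trans ?_
  exact ((sim_assoc _ _ _).trans ((Sim.refl _).prod (sim_comm _ _))).trans (sim_assoc _ _ _).symm

theorem Ch0.prod_ch {f : End F V} {g : End F W} {a a' a'' t t' : F} (h : Ch0 f a a' t)
    (h' : Ch g a' a'' t') : Ch (f.prodMap g) a a'' (t * t') := by
  obtain ⟨T, h1, h2⟩ := h
  obtain ⟨W', _, _, _, G, T', h3, h4, h5⟩ := h'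
  refine ⟨V × W', _, _, inferInstance, (f * T).prodMap G, T.prodMap T',
    by rw [LinearMap.det_prodMap, h1, h3], ?_, ?_⟩
  · refine (((Sim.refl T).prod h4).trans (sim_assoc _ _ _).symm).trans ?_
    exact ((h2.trans (sim_comm _ _)).prod (Sim.refl _)).trans (sim_assoc _ _ _)
  · rw [prodMap_mul]
    refine (((Sim.refl _).prod h5).trans (sim_assoc _ _ _).symm).trans ?_
    exact ((sim_comm _ _).prod (Sim.refl _)).trans (sim_assoc _ _ _)

theorem fl_sc (a : F) : Fl (sc a) := fun c hc =>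
  ⟨LinearEquiv.smulOfNeZero F F c hc, by
    have : (LinearEquiv.smulOfNeZero F F c hc : F →ₗ[F] F) = sc c := by ext; simp
    rw [this, (cy_one c).det, dt_X_sub_C], fun x => by simp [mul_left_comm]⟩

omit [FiniteDimensional F V] in
theorem Ch.st {f : End F V} {a t : F} (h : Ch f a a t) : St f t := by
  obtain ⟨W', _, _, _, G, T, h1, h2, h3⟩ := h
  exact ⟨T, h1, h3.trans h2.symm, ((fl_sc a).prod G).sim h2.symm⟩

theorem cop_X {a : F} {g : F[X]} (h : g.eval a ≠ 0) : IsCoprime (X - C a) g :=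
  (irreducible_X_sub_C a).coprime_iff_not_dvd.mpr (fun e => h (dvd_iff_isRoot.mp e))

theorem ch_of_rz {A : End F V} {a a' : F} {g : F[X]} (hg : g.Monic) (h1 : g.eval a ≠ 0)
    (h2 : g.eval a' ≠ 0) (h : Rz A ((X - C a) * g) ((X - C a') * g)) : Ch A a a' (a * dt g) := by
  obtain ⟨T, c1, c2⟩ := h
  obtain ⟨G, hG⟩ := exists_model hg
  exact ⟨_, _, _, inferInstance, G, T, by rw [c1.det, dt_mul (monic_X_sub_C a) hg, dt_X_sub_C],
    c1.sim (cy_prod (cy_one a) hG (cop_X h1)), c2.sim (cy_prod (cy_one a') hG (cop_X h2))⟩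

theorem rz_pow {A : End F V} {f : F[X]} (hA : Cy A f) (hd : dt f ≠ 0) {k : ℕ}
    (hn : finrank F V = k + 1) {a b : F} (hb : b ≠ 0) (hab : b ≠ a) {p : F[X]} (hp : p.Monic)
    (hpd : p.natDegree = k + 1) (hdt : dt p = dt f * (a * b ^ k)) :
    Rz A ((X - C a) * (X - C b) ^ k) p := by
  have := rz_one hA hd hn (fun _ => b) (fun _ _ => hb) a (by
    simpa using (cop_X (a := a) (g := (X - C b) ^ k) (by simp [sub_eq_zero, hab.symm])).symm) hp hpd
    (by simp [hdt, mul_comm])
  simpa [mul_comm] using this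

theorem ch_base {A : End F V} {f : F[X]} (hA : Cy A f) (hd : dt f ≠ 0) {k : ℕ}
    (hn : finrank F V = k + 1) {a b : F} (hb : b ≠ 0) (h1 : b ≠ a) (h2 : b ≠ a * dt f) :
    Ch A a (a * dt f) (a * b ^ k) := by
  have hm := (monic_X_sub_C b).pow k
  have := ch_of_rz hm (by simp [sub_eq_zero, h1.symm]) (by simp [sub_eq_zero, h2.symm])
    (rz_pow hA hd hn hb h1 ((monic_X_sub_C (a * dt f)).mul hm) (by
      rw [(monic_X_sub_C _).natDegree_mul hm, natDegree_X_sub_C]; simp [add_comm]) (by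
      rw [dt_mul (monic_X_sub_C _) hm, dt_pow (monic_X_sub_C _), dt_X_sub_C, dt_X_sub_C]; ring))
  rwa [dt_pow (monic_X_sub_C _), dt_X_sub_C] at this

theorem ch_sc (l a : F) : Ch (sc l) a (a * l) a := by
  refine ⟨Fin 0 → F, _, _, inferInstance, 0, sc a, by rw [(cy_one a).det, dt_X_sub_C],
    (sim_zero _ _).symm, ?_⟩
  have : sc l * sc a = sc (a * l) := by ext; simp [mul_comm]
  rw [this]; exact (sim_zero _ _).symm

theorem sim_scalar (l : F) (h : finrank F V = finrank F W) :
    Sim (l • LinearMap.id : End F V) (l • LinearMap.id : End F W) :=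
  ⟨LinearEquiv.ofFinrankEq V W h, fun x => by simp⟩

theorem sim_scalar_add (l : F) (h : finrank F V = finrank F W + finrank F U) :
    Sim (l • LinearMap.id : End F V)
      ((l • LinearMap.id : End F W).prodMap (l • LinearMap.id : End F U)) :=
  ⟨LinearEquiv.ofFinrankEq V (W × U) (by rw [h, finrank_prod]), fun x => by
    ext <;> simp⟩

theorem ch0_scalar (l a : F) : ∀ (n : ℕ) (V : Type u) [AddCommGroup V] [Module F V]
    [FiniteDimensional F V], finrank F V = n →
    Ch0 (l • LinearMap.id : End F V) a (a * l ^ n) (a ^ n * l ^ n.choose 2)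
  | 0, V, _, _, _, h => by
    haveI : Subsingleton V := Module.finrank_zero_iff.mp h
    simpa using ch0_zero _ a
  | n + 1, V, _, _, _, h => by
    have := ((ch0_scalar l a n (Fin n → F) (by simp)).prod (ch_sc l (a * l ^ n)).ch0).sim
      (sim_scalar_add (V := V) l (by simp [h])).symm
    convert this using 1
    · ring
    · rw [Nat.choose_succ_succ' n 1, Nat.choose_one_right]; ring

theorem ch_scalar (l a : F) {n : ℕ} (h : finrank F V = n + 1) :
    Ch (l • LinearMap.id : End F V) a (a * l ^ (n + 1)) (a ^ (n + 1) * l ^ (n + 1).choose 2) := by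
  have := ((ch0_scalar l a n (Fin n → F) (by simp)).prod_ch (ch_sc l (a * l ^ n))).sim
    (sim_scalar_add (V := V) l (by simp [h])).symm
  convert this using 1
  · ring
  · rw [Nat.choose_succ_succ' n 1, Nat.choose_one_right]; ring

theorem cy_adj {p : F[X]} (hp : p.Monic) : Cy (LinearMap.mulLeft F (AdjoinRoot.root p)) p := by
  refine ⟨hp, (finrank_adj hp).symm, 1, fun g => ?_⟩
  have : aeval (LinearMap.mulLeft F (AdjoinRoot.root p)) g =
      LinearMap.mulLeft F (aeval (AdjoinRoot.root p) g) :=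
    aeval_algHom_apply (Algebra.lmul F (AdjoinRoot p)) (AdjoinRoot.root p) g
  rw [this, LinearMap.mulLeft_apply, mul_one, AdjoinRoot.aeval_eq, AdjoinRoot.mk_eq_zero]

theorem fl_of_cy [Finite F] {T : End F V} {h g : F[X]} (hT : Cy T (h * g)) (h1 : h.Monic)
    (h2 : Irreducible h) (h3 : IsCoprime h g) : Fl T := by
  haveI := h1.finite_adjoinRoot
  haveI := Fact.mk h2
  haveI : Finite (AdjoinRoot h) := Module.finite_of_finite F
  obtain ⟨G, hG⟩ := exists_model (h1.of_mul_monic_left hT.1)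
  refine (Fl.prod (fun c hc => ?_) G).sim ((cy_prod (cy_adj h1) hG h3).sim hT)
  obtain ⟨y, hy⟩ := FiniteField.norm_surjective F (AdjoinRoot h) c
  have hu : IsUnit (LinearMap.det (Algebra.lmul F (AdjoinRoot h) y)) := by
    rw [← Algebra.norm_apply, hy]; exact hc.isUnit
  refine ⟨LinearMap.equivOfIsUnitDet hu, ?_, fun x => ?_⟩
  · rw [LinearMap.coe_equivOfIsUnitDet, ← Algebra.norm_apply, hy]
  · simp [mul_left_comm]

theorem gd_scalar [Finite F] {l : F} (h : l ^ finrank F V = 1) :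
    Gd (l • LinearMap.id : End F V) := by
  rcases Nat.eq_zero_or_pos (finrank F V) with h0 | h0
  · haveI : Subsingleton V := Module.finrank_zero_iff.mp h0
    exact gd_zero _
  have hl : l ≠ 0 := by rintro rfl; rw [zero_pow h0.ne'] at h; exact zero_ne_one h
  set m := orderOf l with hm
  have hm0 : 0 < m := (isOfFinOrder_iff_pow_eq_one.mpr ⟨_, h0, h⟩).orderOf_pos
  have hlm : l ^ m = 1 := pow_orderOf_eq_one l
  have base : Gd (l • LinearMap.id : End F (Fin m → F)) := by
    rcases Nat.even_or_odd' m with ⟨j, e | e⟩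
    · haveI := Fintype.ofFinite F
      have hmF : (m : F) ≠ 0 := by
        obtain ⟨k, hk⟩ := orderOf_dvd_of_pow_eq_one (FiniteField.pow_card_sub_one_eq_one l hl)
        intro e0
        have : ((Fintype.card F - 1 : ℕ) : F) = 0 := by rw [hk, Nat.cast_mul, ← hm, e0, zero_mul]
        rw [Nat.cast_sub Fintype.card_pos, FiniteField.cast_card_eq_zero] at this
        simp at this
      have hp : (X ^ m - C (-1) : F[X]).Monic := monic_X_pow_sub_C _ hm0.ne'
      have hpd : (X ^ m - C (-1) : F[X]).natDegree = m := natDegree_X_pow_sub_C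
      obtain ⟨G, hG⟩ := exists_model hp
      obtain ⟨i, i1, i2, g, i3⟩ := exists_monic_irreducible_factor (X ^ m - C (-1) : F[X])
        (not_isUnit_of_natDegree_pos _ (by omega))
      have hsep := separable_X_pow_sub_C (-1 : F) hmF (by simp)
      have hG' : Cy ((l • LinearMap.id : End F _) * G) (X ^ m - C (-1)) := by
        obtain ⟨v, hv, hs⟩ := hG.gen
        have e1 : (l • LinearMap.id : End F _) * G = l • G := by ext; simp
        rw [e1]
        refine cy_of_gen hp hG.2.1 (v := v) ?_ (fun w => ?_)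
        · have := (hv _).mpr dvd_rfl
          simpa [_root_.smul_pow, hlm] using this
        · obtain ⟨k, rfl⟩ := hs w
          refine ⟨k.comp (C l⁻¹ * X), ?_⟩
          rw [aeval_comp]
          congr 2
          ext; simp [hl]
      have : St (l • LinearMap.id : End F _) 1 := ⟨G, by
        rw [hG.det, dt, hpd, coeff_sub, coeff_X_pow, if_neg hm0.ne, coeff_C_zero, e]; simp, hG'.sim hG,
        fl_of_cy (i3 ▸ hG) i1 i2 (i3 ▸ hsep).isCoprime⟩
      exact this.gd.sim (sim_scalar l (by rw [hpd]))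
    · have := ch_scalar (V := Fin m → F) l 1 (n := 2 * j) (by simp [e])
      have e2 : (2 * j + 1).choose 2 = m * j := by
        rw [Nat.choose_two_right, e]
        exact Nat.div_eq_of_eq_mul_right (by omega) (by simp; ring)
      rw [e2, ← e, pow_mul, hlm] at this
      simp only [one_pow, mul_one] at this
      exact this.st.gd
  obtain ⟨j, hj⟩ := orderOf_dvd_of_pow_eq_one h
  rw [← hm] at hj
  clear h h0
  induction j generalizing V with
  | zero =>
    haveI : Subsingleton V := Module.finrank_zero_iff.mp hj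
    exact gd_zero _
  | succ j ih =>
    exact ((ih (V := Fin (m * j) → F) (by simp)).prod base).sim
      (sim_scalar_add l (by simp [hj, mul_add])).symm

theorem pair_ind (μ : F[X])
    (I : ∀ (V : Type u) [AddCommGroup V] [Module F V] [FiniteDimensional F V], End F V → Prop)
    (hsim : ∀ (V W : Type u) [AddCommGroup V] [Module F V] [FiniteDimensional F V]
      [AddCommGroup W] [Module F W] [FiniteDimensional F W] (f : End F V) (g : End F W),
      Sim f g → I W g → I V f)
    (h0 : ∀ (V : Type u) [AddCommGroup V] [Module F V] [FiniteDimensional F V] (f : End F V),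
      Subsingleton V → I V f)
    (hp : ∀ (V W : Type u) [AddCommGroup V] [Module F V] [FiniteDimensional F V]
      [AddCommGroup W] [Module F W] [FiniteDimensional F W] (f : End F V) (g : End F W),
      I V f → I W g → I (V × W) (f.prodMap g))
    (hpm : ∀ p : F[X], p.Monic → 0 < p.natDegree → p ∣ μ → dt p = 1 ∨ dt p = -1)
    (h1 : ∀ (V : Type u) [AddCommGroup V] [Module F V] [FiniteDimensional F V] (c : End F V)
      (p : F[X]), Cy c p → 0 < p.natDegree → p ∣ μ → dt p = 1 → I V c)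
    (h2 : ∀ (V W : Type u) [AddCommGroup V] [Module F V] [FiniteDimensional F V]
      [AddCommGroup W] [Module F W] [FiniteDimensional F W] (c : End F V) (p : F[X])
      (c' : End F W) (p' : F[X]), Cy c p → 0 < p.natDegree → p ∣ μ → dt p = -1 → Cy c' p' →
      0 < p'.natDegree → p' ∣ μ → dt p' = -1 → (-1 : F) ≠ 1 → I (V × W) (c.prodMap c'))
    (f : End F V) (hf : aeval f μ = 0) (hd : LinearMap.det f = 1) : I V f := by
  have := cyclic_ind μ (fun V _ _ _ f => (LinearMap.det f = 1 ∧ I V f) ∨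
    (LinearMap.det f = -1 ∧ (-1 : F) ≠ 1 ∧ ∃ (U W : Type u) (_ : AddCommGroup U) (_ : Module F U)
      (_ : FiniteDimensional F U) (_ : AddCommGroup W) (_ : Module F W) (_ : FiniteDimensional F W)
      (c : End F U) (p : F[X]) (g : End F W), Cy c p ∧ 0 < p.natDegree ∧ p ∣ μ ∧ dt p = -1 ∧
      I W g ∧ Sim f (c.prodMap g))) ?_ ?_ ?_ f hf
  · rcases this with h | h
    · exact h.2
    · exact absurd (h.1.symm.trans hd) h.2.1
  · intro V W _ _ _ _ _ _ f g hs h
    rcases h with h | ⟨a1, a2, U', W', _, _, _, _, _, _, c, p, g', b1, b2, b3, b4, b5, b6⟩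
    · exact Or.inl ⟨hs.det.trans h.1, hsim _ _ _ _ hs h.2⟩
    · exact Or.inr ⟨hs.det.trans a1, a2, U', W', _, _, inferInstance, _, _, inferInstance, c, p,
        g', b1, b2, b3, b4, b5, hs.trans b6⟩
  · intro V _ _ _ f hV
    exact Or.inl ⟨by rw [Subsingleton.elim f LinearMap.id, LinearMap.det_id], h0 V f hV⟩
  · intro V W _ _ _ _ _ _ c p g c1 c2 c3 h
    have hdet : LinearMap.det (c.prodMap g) = dt p * LinearMap.det g := by
      rw [LinearMap.det_prodMap, c1.det]
    by_cases e : dt p = 1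
    · rcases h with h | ⟨a1, a2, U', W', _, _, _, _, _, _, c', p', g', b1, b2, b3, b4, b5, b6⟩
      · exact Or.inl ⟨by rw [hdet, e, h.1, one_mul], hp _ _ _ _ (h1 _ c p c1 c2 c3 e) h.2⟩
      · refine Or.inr ⟨by rw [hdet, e, a1, one_mul], a2, U', V × W', _, _, inferInstance, _, _,
          inferInstance, c', p', c.prodMap g', b1, b2, b3, b4,
          hp _ _ _ _ (h1 _ c p c1 c2 c3 e) b5, ?_⟩
        refine (((Sim.refl c).prod b6).trans (sim_assoc _ _ _).symm).trans ?_
        exact ((sim_comm _ _).prod (Sim.refl _)).trans (sim_assoc _ _ _)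
    · have e' := (hpm p c1.1 c2 c3).resolve_left e
      have hne : (-1 : F) ≠ 1 := fun k => e (e'.trans k)
      rcases h with h | ⟨a1, a2, U', W', _, _, _, _, _, _, c', p', g', b1, b2, b3, b4, b5, b6⟩
      · exact Or.inr ⟨by rw [hdet, e', h.1, mul_one], hne, V, W, _, _, inferInstance, _, _,
          inferInstance, c, p, g, c1, c2, c3, e', h.2, Sim.refl _⟩
      · exact Or.inl ⟨by rw [hdet, e', a1]; simp, hsim _ _ _ _
          (((Sim.refl c).prod b6).trans (sim_assoc _ _ _).symm)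
          (hp _ _ _ _ (h2 _ _ c p c' p' c1 c2 c3 e' b1 b2 b3 b4 hne) b5)⟩

theorem link {A : End F V} {B : End F W} (hA : LinearMap.det A ≠ 0) {τ1 τ2 p1 p2 : F[X]}
    (h1 : Rz A τ1 p1) (h2 : Rz B τ2 p2) (hc : IsCoprime τ1 τ2) (e : p1 * p2 = τ1 * τ2)
    (h0 : 0 < finrank F W) : Rz (A.prodMap B) (τ1 * τ2) (τ1 * τ2) := by
  obtain ⟨T1, a1, a2⟩ := h1
  obtain ⟨T2, b1, b2⟩ := h2
  obtain ⟨Z, hZ⟩ := cy_link a2 b2 (by rw [b2.2.1]; exact h0)
  refine ⟨tri T1 ((LinearMap.equivOfIsUnitDet hA.isUnit).symm ∘ₗ Z) T2, cy_tri a1 b1 hc _, ?_⟩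
  rw [← e]
  convert hZ using 1
  have : ∀ y, A ((LinearMap.equivOfIsUnitDet hA.isUnit).symm y) = y := fun y => by
    rw [← LinearMap.equivOfIsUnitDet_apply hA.isUnit, LinearEquiv.apply_symm_apply]
  refine LinearMap.ext (fun x => ?_)
  simp [this]

theorem Rz.st [Finite F] {A : End F V} {h g : F[X]} (hA : Rz A (h * g) (h * g)) (h1 : h.Monic)
    (h2 : Irreducible h) (h3 : IsCoprime h g) : St A (dt (h * g)) := by
  obtain ⟨T, a1, a2⟩ := hA
  exact ⟨T, a1.det, a2.sim a1, fl_of_cy a1 h1 h2 h3⟩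

end Cfsg.Agent.Com
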