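import Mathlib
import Cfsg.Agent.Elu.Cmt3

/-! Commutators in special linear groups over fields with at least four elements. -/

set_option autoImplicit false
set_option backward.isDefEq.respectTransparency false

namespace Cfsg.Agent.Com

open Polynomial Module

universe u

variable {F : Type u} [Field F]
variable {V W U Q : Type u} [AddCommGroup V] [Module F V] [AddCommGroup W] [Module F W]
  [AddCommGroup U] [Module F U] [AddCommGroup Q] [Module F Q]
variable [FiniteDimensional F V] [FiniteDimensional F W] [FiniteDimensional F U]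
  [FiniteDimensional F Q]

theorem rz_two' {A : End F V} {f : F[X]} (hA : Cy A f) (hd : dt f ≠ 0) {k : ℕ}
    (hn : finrank F V = k + 3) {a b : F} (ha : a ≠ 0) (hb : b ≠ 0) {s δ : F}
    (h1 : (qd s δ).eval a ≠ 0) (h2 : (qd s δ).eval b ≠ 0) {p : F[X]} (hp : p.Monic)
    (hpd : p.natDegree = k + 3) (hdt : dt p = dt f * (a * b ^ k * δ)) :
    Rz A ((X - C a) * ((X - C b) ^ k * qd s δ)) p := by
  have := rz_two hA hd hn (fun i => if i = 0 then a else b) (fun i _ => by
    split_ifs <;> assumption) s δ (by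
      rw [Finset.prod_range_succ']
      simpa using IsCoprime.mul_left (cop_X h2).pow_left (cop_X h1)) hp hpd (by
      rw [Finset.prod_range_succ', hdt]; simp [mul_comm])
  rw [Finset.prod_range_succ'] at this
  convert this using 1
  simp; ring

theorem Cy.eq_scalar {c : End F V} {l : F} (h : Cy c (X - C l)) :
    c = l • LinearMap.id ∧ finrank F V = 1 := by
  refine ⟨?_, by rw [← h.2.1, natDegree_X_sub_C]⟩
  have := (h.aeval_iff _).mpr dvd_rfl
  rw [map_sub, aeval_X, aeval_C, sub_eq_zero] at this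
  rw [this]; rfl

theorem monic_deg_one {p : F[X]} (hp : p.Monic) (h : p.natDegree = 1) : p = X - C (dt p) := by
  rw [dt, h]
  conv_lhs => rw [hp.eq_X_add_C h]
  simp

variable [Fintype F]

theorem exists_ne3 (hq : 4 ≤ Fintype.card F) (x y z : F) : ∃ w, w ≠ x ∧ w ≠ y ∧ w ≠ z := by
  classical
  obtain ⟨w, -, hw⟩ := Finset.exists_mem_notMem_of_card_lt_card (s := ({x, y, z} : Finset F))
    (t := Finset.univ) (Finset.card_le_three.trans_lt (by rw [Finset.card_univ]; omega))
  exact ⟨w, by simpa using hw⟩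

theorem ch_flex (hq : 4 ≤ Fintype.card F) {A : End F V} {f : F[X]} (hA : Cy A f) (hd : dt f ≠ 0)
    (hn : 3 ≤ finrank F V) {a t : F} (ha : a ≠ 0) (ht : t ≠ 0) : Ch A a (a * dt f) t := by
  obtain ⟨k, hk⟩ : ∃ k, finrank F V = k + 3 := ⟨finrank F V - 3, by omega⟩
  obtain ⟨b, hb, h1, h2⟩ := exists_ne3 hq 0 a (a * dt f)
  set δ := t / (a * b ^ k) with hδ
  obtain ⟨s, s1, s2, s3⟩ := exists_ne3 hq (a + δ / a) (a * dt f + δ / (a * dt f)) (b + δ / b)
  have key : ∀ x : F, x ≠ 0 → s ≠ x + δ / x → (qd s δ).eval x ≠ 0 := fun x hx h e => h (by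
    rw [eval_qd] at e
    field_simp
    linear_combination -e)
  have hm := ((monic_X_sub_C b).pow k).mul (qd_monic s δ)
  have e : dt ((X - C b) ^ k * qd s δ) = b ^ k * δ := by
    rw [dt_mul ((monic_X_sub_C b).pow k) (qd_monic s δ), dt_pow (monic_X_sub_C b), dt_X_sub_C, dt_qd]
  have := ch_of_rz hm (a := a) (a' := a * dt f)
    (by simp [sub_eq_zero, h1.symm, key a ha s1])
    (by simp [sub_eq_zero, h2.symm, key _ (mul_ne_zero ha hd) s2])
    (rz_two' hA hd hk ha hb (key a ha s1) (key b hb s3) ((monic_X_sub_C _).mul hm) (by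
      rw [(monic_X_sub_C _).natDegree_mul hm, ((monic_X_sub_C b).pow k).natDegree_mul (qd_monic s δ),
        natDegree_X_sub_C, qd_natDegree, (monic_X_sub_C b).natDegree_pow, natDegree_X_sub_C]
      omega) (by rw [dt_mul (monic_X_sub_C _) hm, e, dt_X_sub_C]; ring))
  rw [e] at this
  convert this using 1
  rw [hδ]; field_simp

theorem ch0_all (hq : 4 ≤ Fintype.card F) (g : End F V) (hg : LinearMap.det g ≠ 0) (a : F)
    (ha : a ≠ 0) : ∃ t, t ≠ 0 ∧ Ch0 g a (a * LinearMap.det g) t := by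
  refine cyclic_ind 0 (fun V _ _ _ g => LinearMap.det g ≠ 0 → ∀ a : F, a ≠ 0 →
    ∃ t, t ≠ 0 ∧ Ch0 g a (a * LinearMap.det g) t) ?_ ?_ ?_ g (by simp) hg a ha
  · intro V W _ _ _ _ _ _ f g hs h hf a ha
    obtain ⟨t, h1, h2⟩ := h (hs.det ▸ hf) a ha
    exact ⟨t, h1, hs.det ▸ h2.sim hs.symm⟩
  · intro V _ _ _ f hV _ a _
    refine ⟨1, one_ne_zero, ?_⟩
    rw [Subsingleton.elim f LinearMap.id, LinearMap.det_id, mul_one]
    exact ch0_zero _ a
  · intro V W _ _ _ _ _ _ c p g c1 c2 _ h hd a ha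
    rw [LinearMap.det_prodMap, c1.det] at hd ⊢
    obtain ⟨b, hb, h1, h2⟩ := exists_ne3 hq 0 a (a * dt p)
    have hp := left_ne_zero_of_mul hd
    obtain ⟨t, h3, h4⟩ := h (right_ne_zero_of_mul hd) (a * dt p) (mul_ne_zero ha hp)
    refine ⟨_, mul_ne_zero (mul_ne_zero ha (pow_ne_zero (p.natDegree - 1) hb)) h3, ?_⟩
    rw [← mul_assoc]
    exact (ch_base c1 hp (by rw [← c1.2.1]; omega) hb h1 h2).ch0.prod h4

theorem gd_two (hq : 4 ≤ Fintype.card F) {A : End F V} {f : F[X]} (hA : Cy A f)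
    (hn : f.natDegree = 2) (hd : dt f = 1) : Gd A := by
  obtain ⟨a, ha, h1, h2⟩ := exists_ne3 hq 0 1 (-1)
  have h3 : a⁻¹ ≠ a := fun e => by
    have : a * a = 1 := by nth_rewrite 1 [← e]; exact inv_mul_cancel₀ ha
    rcases mul_self_eq_one_iff.mp this with h | h <;> contradiction
  have := ch_base hA (by simp [hd]) (k := 1) (by rw [← hA.2.1, hn]) (inv_ne_zero ha) h3
    (by rw [hd, mul_one]; exact h3)
  rw [hd, mul_one, pow_one, mul_inv_cancel₀ ha] at this
  exact this.st.gd

omit [Fintype F] in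
theorem ch_two {A : End F V} {f : F[X]} (hA : Cy A f) (hd : dt f ≠ 0) (hn : f.natDegree = 2)
    {a c : F} (ha : a ≠ 0) (hc : c ≠ 0) (h1 : c ≠ 1) (h2 : c ≠ dt f) :
    Ch A a (a * dt f) (a * a * c) := by
  have := ch_base hA hd (k := 1) (by rw [← hA.2.1, hn]) (a := a) (mul_ne_zero ha hc)
    (by simpa [ha] using h1) (by simpa [ha] using h2)
  rwa [pow_one, ← mul_assoc] at this

theorem gd_homog (hq : 4 ≤ Fintype.card F) {μ : F[X]} (h2 : μ.natDegree = 2)
    (hirr : ∀ p : F[X], p.Monic → 0 < p.natDegree → p ∣ μ → p = μ) (f : End F V)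
    (hf : aeval f μ = 0) (hd : LinearMap.det f = 1) : Gd f := by
  by_cases e : dt μ = 1 ∨ dt μ = -1
  · refine pair_ind μ (fun V _ _ _ f => Gd f) (fun _ _ _ _ _ _ _ _ _ _ hs h => h.sim hs.symm)
      (fun V _ _ _ f _ => gd_zero f) (fun _ _ _ _ _ _ _ _ _ _ h h' => h.prod h')
      (fun p a b c => hirr p a b c ▸ e) (fun V _ _ _ c p a b h e => gd_two hq a
        (hirr p a.1 b h ▸ h2) e) ?_ f hf hd
    intro V W _ _ _ _ _ _ c p c' p' a1 a2 a3 a4 b1 b2 b3 b4 hne
    obtain ⟨x, hx, x1, x2⟩ := exists_ne3 hq 0 1 (-1)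
    have k1 := ch_two a1 (by simp [a4]) (hirr p a1.1 a2 a3 ▸ h2) one_ne_zero hx x1 (a4 ▸ x2)
    have k2 := ch_two b1 (by simp [b4]) (hirr p' b1.1 b2 b3 ▸ h2) (a := 1 * dt p) (by simp [a4])
      (inv_ne_zero hx) (by simpa using x1) (by rw [b4]; intro h; apply x2; rw [← inv_inv x, h]; simp)
    have := k1.ch0.prod_ch k2
    rw [a4, b4] at this
    simp only [mul_neg, one_mul, mul_one, neg_neg, mul_inv_cancel₀ hx] at this
    exact this.st.gd
  rw [not_or] at e
  set d := dt μ with hdef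
  rcases Nat.eq_zero_or_pos (finrank F V) with h0 | h0
  · haveI : Subsingleton V := Module.finrank_zero_iff.mp h0
    exact gd_zero _
  obtain ⟨Z, U, c, g, h1, h3, h4, h5⟩ := split_cyclic f h0
  have e0 := hirr _ h1.1 h3 (minpoly.dvd F f hf)
  rw [e0] at h1 h5
  have hdd := h4.det
  rw [hd, LinearMap.det_prodMap, h1.det] at hdd
  have hd0 : d ≠ 0 := left_ne_zero_of_mul (hdd ▸ one_ne_zero)
  have n1 : d * d ≠ 1 := fun h => by
    rcases mul_self_eq_one_iff.mp h with h | h
    · exact e.1 h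
    · exact e.2 h
  have n2 : d * d ≠ d := fun h => e.1 (mul_left_cancel₀ hd0 (h.trans (mul_one d).symm))
  obtain ⟨l, l1, l2⟩ := cyclic_ind μ (fun V _ _ _ g => ∃ l : ℕ, LinearMap.det g = d ^ l ∧
    ∀ a : F, a ≠ 0 → Ch0 g a (a * d ^ l) (a ^ (2 * l) * d ^ (l * (l + 1))))
    (fun _ _ _ _ _ _ _ _ f g hs ⟨l, l1, l2⟩ => ⟨l, hs.det.trans l1, fun a ha => (l2 a ha).sim hs.symm⟩)
    (fun V _ _ _ f hV => ⟨0, by rw [Subsingleton.elim f LinearMap.id, LinearMap.det_id, pow_zero],
      fun a _ => by simpa using ch0_zero f a⟩)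
    (fun V W _ _ _ _ _ _ c p g c1 c2 c3 ⟨l, l1, l2⟩ => by
      rw [hirr p c1.1 c2 c3] at c1
      refine ⟨l + 1, by rw [LinearMap.det_prodMap, c1.det, l1]; ring, fun a ha => ?_⟩
      have := (ch_two c1 hd0 h2 ha (mul_ne_zero hd0 hd0) n1 n2).ch0.prod
        (l2 _ (mul_ne_zero ha hd0))
      convert this using 1 <;> ring) g h5
  have := (l2 1 one_ne_zero).prod_ch (ch_two h1 hd0 h2 (by simp [hd0]) (mul_ne_zero hd0 hd0) n1 n2)
  rw [l1] at hdd
  have e1 : (1 : F) * d ^ l * dt μ = 1 := by rw [← hdef]; linear_combination -hdd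
  have e2 : (1 : F) ^ (2 * l) * d ^ (l * (l + 1)) * (1 * d ^ l * (1 * d ^ l) * (d * d)) =
      (d * d ^ l) ^ (l + 2) := by ring
  rw [e1, e2, ← hdd, one_pow] at this
  exact this.st.gd.sim ((sim_comm _ _).trans h4.symm)

theorem gd_jordan (hq : 4 ≤ Fintype.card F) {l : F} (f : End F V)
    (hf : minpoly F f = (X - C l) ^ 2) (hd : LinearMap.det f = 1) : Gd f := by
  have hdiv : ∀ p : F[X], p.Monic → 0 < p.natDegree → p ∣ (X - C l) ^ 2 →
      p = X - C l ∨ p = (X - C l) ^ 2 := by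
    intro p hp h0 h
    obtain ⟨i, hi, e⟩ := (dvd_prime_pow (prime_X_sub_C l) 2).mp h
    have := eq_of_monic_of_associated hp ((monic_X_sub_C l).pow i) e
    interval_cases i
    · simp [this] at h0
    · exact Or.inl (by simpa using this)
    · exact Or.inr this
  have hdt : dt ((X - C l) ^ 2) = l * l := by rw [dt_pow (monic_X_sub_C l), dt_X_sub_C, pow_two]
  have hdeg : ((X - C l) ^ 2).natDegree = 2 := by simp
  by_cases e : l * l = 1
  · refine pair_ind ((X - C l) ^ 2) (fun V _ _ _ f => Gd f)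
      (fun _ _ _ _ _ _ _ _ _ _ hs h => h.sim hs.symm)
      (fun V _ _ _ f _ => gd_zero f) (fun _ _ _ _ _ _ _ _ _ _ h h' => h.prod h')
      (fun p a b c => ?_) (fun V _ _ _ c p a b h e => ?_) ?_ f (hf ▸ minpoly.aeval F f) hd
    · rcases hdiv p a b c with rfl | rfl
      · rw [dt_X_sub_C]; exact mul_self_eq_one_iff.mp e
      · exact Or.inl (hdt.trans e)
    · rcases hdiv p a.1 b h with rfl | rfl
      · rw [dt_X_sub_C] at e
        rw [a.eq_scalar.1]
        exact gd_scalar (by simp [e])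
      · exact gd_two hq a hdeg e
    · intro V W _ _ _ _ _ _ c p c' p' a1 a2 a3 a4 b1 b2 b3 b4 hne
      rcases hdiv p a1.1 a2 a3 with rfl | rfl
      swap
      · exact absurd (a4.symm.trans (hdt.trans e)) hne
      rcases hdiv p' b1.1 b2 b3 with rfl | rfl
      swap
      · exact absurd (b4.symm.trans (hdt.trans e)) hne
      rw [a1.eq_scalar.1, b1.eq_scalar.1]
      exact (gd_scalar (V := V × W) (l := l) (by
        rw [finrank_prod, a1.eq_scalar.2, b1.eq_scalar.2, ← e]; ring)).sim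
        (sim_scalar_add l finrank_prod)
  rcases Nat.eq_zero_or_pos (finrank F V) with h0 | h0
  · haveI : Subsingleton V := Module.finrank_zero_iff.mp h0
    exact gd_zero _
  obtain ⟨Z, U, c, g, h1, h3, h4, h5⟩ := split_cyclic f h0
  rw [hf] at h1 h5
  have hdd := h4.det
  rw [hd, LinearMap.det_prodMap, h1.det, hdt] at hdd
  have hl0 : l ≠ 0 := left_ne_zero_of_mul (left_ne_zero_of_mul (hdd ▸ one_ne_zero))
  have hll : dt ((X - C l) ^ 2) ≠ 0 := hdt ▸ mul_ne_zero hl0 hl0
  have hl1 : l ≠ 1 := by rintro rfl; exact e (one_mul 1)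
  obtain ⟨n, l1, l2⟩ := cyclic_ind ((X - C l) ^ 2) (fun V _ _ _ g => ∃ n : ℕ,
    LinearMap.det g = l ^ n ∧ ∀ a : F, a ≠ 0 → Ch0 g a (a * l ^ n) (a ^ n * l ^ n.choose 2))
    (fun _ _ _ _ _ _ _ _ f g hs ⟨l, l1, l2⟩ => ⟨l, hs.det.trans l1, fun a ha => (l2 a ha).sim hs.symm⟩)
    (fun V _ _ _ f hV => ⟨0, by rw [Subsingleton.elim f LinearMap.id, LinearMap.det_id, pow_zero],
      fun a _ => by simpa using ch0_zero f a⟩)
    (fun V W _ _ _ _ _ _ c p g c1 c2 c3 ⟨n, l1, l2⟩ => by
      rcases hdiv p c1.1 c2 c3 with rfl | rfl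
      · refine ⟨n + 1, by rw [LinearMap.det_prodMap, c1.det, l1, dt_X_sub_C]; ring, fun a ha => ?_⟩
        have := ((ch_sc l a).sim (sim_scalar (V := F) (W := V) l (by simp [c1.eq_scalar.2]))).ch0.prod
          (l2 _ (mul_ne_zero ha hl0))
        rw [← c1.eq_scalar.1] at this
        convert this using 1
        · ring
        · rw [Nat.choose_succ_succ' n 1, Nat.choose_one_right]; ring
      · refine ⟨n + 2, by rw [LinearMap.det_prodMap, c1.det, l1, hdt]; ring, fun a ha => ?_⟩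
        have := (ch_two c1 hll hdeg ha hl0 hl1 (by
          rw [hdt]; exact fun h => hl1 (mul_left_cancel₀ hl0 (h.symm.trans (mul_one l).symm)))).ch0.prod
          (l2 _ (mul_ne_zero ha hll))
        rw [hdt] at this
        convert this using 1
        · ring
        · rw [Nat.choose_succ_succ' (n + 1) 1, Nat.choose_succ_succ' n 1, Nat.choose_one_right,
            Nat.choose_one_right]; ring) g h5
  rw [l1] at hdd
  set ε := l ^ (n + 2).choose 2 with hε
  have hε2 : ε * ε = 1 := by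
    have : (n + 2).choose 2 + (n + 2).choose 2 = (n + 2) * (n + 1) := by
      have := Nat.add_one_mul_choose_eq (n + 1) 1
      rw [Nat.choose_one_right] at this
      simp only [show n + 1 + 1 = n + 2 from rfl, show 1 + 1 = 2 from rfl] at this
      omega
    rw [hε, ← pow_add, this, pow_mul, show l ^ (n + 2) = 1 by linear_combination -hdd, one_pow]
  have hε0 : ε ≠ 0 := left_ne_zero_of_mul (hε2 ▸ one_ne_zero)
  have := (l2 1 one_ne_zero).prod_ch (ch_two h1 hll hdeg (c := ε * l) (by simp [hl0])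
    (mul_ne_zero hε0 hl0) (fun h => e (by linear_combination (ε * l + 1) * h - l * l * hε2))
    (fun h => e (by
      rw [hdt] at h
      rw [← mul_right_cancel₀ hl0 h, hε2])))
  have e1 : (1 : F) * l ^ n * dt ((X - C l) ^ 2) = 1 := by rw [hdt]; linear_combination -hdd
  have e2 : (1 : F) ^ n * l ^ n.choose 2 * (1 * l ^ n * (1 * l ^ n) * (ε * l)) = ε * ε := by
    nth_rewrite 3 [hε]
    rw [Nat.choose_succ_succ' (n + 1) 1, Nat.choose_succ_succ' n 1, Nat.choose_one_right,
      Nat.choose_one_right]; ring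
  rw [e1, e2, hε2] at this
  exact this.st.gd.sim ((sim_comm _ _).trans h4.symm)

/-- A scalar matrix. -/
abbrev dg (l : F) (s : ℕ) : End F (Fin s → F) := l • LinearMap.id

omit [Fintype F] in
theorem dg_succ (l : F) (s : ℕ) : Sim (dg l (s + 1)) ((dg l s).prodMap (sc l)) :=
  sim_scalar_add l (by simp)

omit [Fintype F] in
theorem cy_diag {l m : F} (h : l ≠ m) : Cy ((sc l).prodMap (sc m)) ((X - C l) * (X - C m)) ∧
    dt ((X - C l) * (X - C m)) = l * m ∧ ((X - C l) * (X - C m)).natDegree = 2 :=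
  ⟨cy_prod (cy_one l) (cy_one m) (cop_X (by simpa [sub_eq_zero] using h)),
    by rw [dt_mul (monic_X_sub_C _) (monic_X_sub_C _), dt_X_sub_C, dt_X_sub_C],
    by rw [(monic_X_sub_C _).natDegree_mul (monic_X_sub_C _)]; simp⟩

omit [Fintype F] in
theorem ch_flex3 {l m : F} (h : l ≠ m) (hl : l ≠ 0) (hm : m ≠ 0) (h1 : l * l ≠ 1) (h2 : m * m ≠ 1)
    {a t : F} (ha : a ≠ 0) (ht : t ≠ 0) :
    Ch (((sc l).prodMap (sc m)).prodMap (sc l)) a (a * (l * m) * l) t := by
  obtain ⟨c1, c2, c3⟩ := cy_diag h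
  have hd : dt ((X - C l) * (X - C m)) ≠ 0 := c2 ▸ mul_ne_zero hl hm
  by_cases e : t / (a ^ 3 * (l * m)) ≠ 1 ∧ t / (a ^ 3 * (l * m)) ≠ l * m
  · have := (ch_two c1 hd c3 ha (c := t / (a ^ 3 * (l * m))) (by positivity) e.1
      (c2 ▸ e.2)).ch0.prod_ch (ch_sc l _)
    rw [c2] at this
    convert this using 1
    field_simp
  · have e' : t = a ^ 3 * (l * m) ∨ t = a ^ 3 * (l * m) * (l * m) := by
      by_contra k
      rw [not_or] at k
      exact e ⟨fun h => k.1 (by field_simp at h; linear_combination h),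
        fun h => k.2 (by field_simp at h; linear_combination h)⟩
    have := ((ch_sc l a).ch0.prod_ch (ch_two c1 hd c3 (mul_ne_zero ha hl)
      (c := t / (a ^ 3 * (l * l))) (by positivity) (fun k => ?_) (fun k => ?_))).sim (sim_comm _ _)
    · rw [c2] at this
      convert this using 1
      · ring
      · field_simp
    · have k' : t = a ^ 3 * (l * l) := by field_simp at k; linear_combination k
      rcases e' with e' | e'
      · apply h
        have : a ^ 3 * l * (l - m) = 0 := by linear_combination e' - k'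
        simpa [ha, hl, sub_eq_zero] using this
      · apply h2
        have : a ^ 3 * (l * l) * (m * m - 1) = 0 := by linear_combination k' - e'
        simpa [ha, hl, sub_eq_zero] using this
    · rw [c2] at k
      have k' : t = a ^ 3 * (l * l) * (l * m) := by field_simp at k; linear_combination k
      rcases e' with e' | e'
      · apply h1
        have : a ^ 3 * (l * m) * (l * l - 1) = 0 := by linear_combination e' - k'
        simpa [ha, hl, hm, sub_eq_zero] using this
      · apply h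
        have : a ^ 3 * (l * m) * l * (l - m) = 0 := by linear_combination e' - k'
        simpa [ha, hl, hm, sub_eq_zero] using this

omit [Fintype F] in
theorem gd_diag1 {l m : F} (h : l ≠ m) (h1 : l * l ≠ 1) (h2 : m * m ≠ 1) (s t : ℕ)
    (hd : l ^ (s + 2) * m ^ (t + 1) = 1) : Gd ((dg l (s + 2)).prodMap (dg m (t + 1))) := by
  have hl : l ≠ 0 := by rintro rfl; simp at hd
  have hm : m ≠ 0 := by rintro rfl; simp at hd
  have k1 := (ch0_scalar l 1 s (Fin s → F) (by simp)).prod
    (ch0_scalar m (1 * l ^ s) t (Fin t → F) (by simp))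
  have k2 := k1.prod_ch (ch_flex3 h hl hm h1 h2 (by simp [hl, hm])
    (t := (1 ^ s * l ^ s.choose 2 * ((1 * l ^ s) ^ t * m ^ t.choose 2))⁻¹) (by simp [hl, hm]))
  rw [mul_inv_cancel₀ (by simp [hl, hm]), show 1 * l ^ s * m ^ t * (l * m) * l = 1 by
    linear_combination hd] at k2
  refine k2.st.gd.sim ?_
  refine Sim.symm ((((dg_succ l (s + 1)).trans ((dg_succ l s).prod (Sim.refl _))).prod
    (dg_succ m t)).trans ?_)
  refine ⟨LinearEquiv.ofBijective
    { toFun := fun x => ((x.1.1.1, x.2.1), ((x.1.1.2, x.2.2), x.1.2))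
      map_add' := fun _ _ => rfl
      map_smul' := fun _ _ => rfl } ⟨fun x y e => ?_, fun y =>
      ⟨(((y.1.1, y.2.1.1), y.2.2), (y.1.2, y.2.1.2)), rfl⟩⟩, fun _ => rfl⟩
  simp only [LinearMap.coe_mk, AddHom.coe_mk, Prod.mk.injEq] at e
  ext <;> simp [e]

omit [Fintype F] in
theorem gd_diag2 {l : F} (h1 : l * l ≠ 1) (s : ℕ) (hd : l ^ (s + 1) = -1) :
    Gd ((dg l (s + 1)).prodMap (sc (-1))) := by
  have hl : l ≠ 0 := by rintro rfl; simp at hd
  have h : l ≠ -1 := by rintro rfl; simp at h1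
  obtain ⟨c1, c2, c3⟩ := cy_diag h
  have hd0 : dt ((X - C l) * (X - C (-1))) ≠ 0 := by rw [c2]; simpa using hl
  set κ := l ^ s.choose 2 * (l ^ s * l ^ s) with hκ
  have hκ0 : κ ≠ 0 := by positivity
  have main : ∀ a : F, a ≠ 0 → a ^ (s + 2) * κ ≠ 1 → a ^ (s + 2) * κ * (-l) ≠ 1 →
      Gd ((dg l (s + 1)).prodMap (sc (-1))) := by
    intro a ha n1 n2
    have k := (ch0_scalar l a s (Fin s → F) (by simp)).prod_ch (ch_two c1 hd0 c3
      (a := a * l ^ s) (by positivity) (c := (a ^ (s + 2) * κ)⁻¹) (by positivity)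
      (fun e => n1 (inv_eq_one.mp e)) (fun e => n2 (by
        rw [c2] at e
        rw [show -l = l * -1 by ring, ← e, mul_inv_cancel₀ (by positivity)])))
    rw [c2, show a * l ^ s * (l * -1) = a by linear_combination (-a) * hd,
      show a ^ s * l ^ s.choose 2 * (a * l ^ s * (a * l ^ s) * (a ^ (s + 2) * κ)⁻¹) = 1 by
        rw [hκ]; field_simp; ring] at k
    exact k.st.gd.sim (((dg_succ l s).prod (Sim.refl _)).trans (sim_assoc (dg l s) (sc l) (sc (-1)))).symm
  have p1 : l ^ (s + 2) = -l := by linear_combination l * hd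
  have p2 : (l * l) ^ (s + 2) = l * l := by rw [mul_pow, p1]; ring
  by_cases e1 : κ ≠ 1 ∧ κ * (-l) ≠ 1
  · exact main 1 one_ne_zero (by simpa using e1.1) (by simpa using e1.2)
  by_cases e2 : -l * κ ≠ 1 ∧ -l * κ * (-l) ≠ 1
  · exact main l hl (p1 ▸ e2.1) (p1 ▸ e2.2)
  refine main (l * l) (by positivity) ?_ ?_
  all_goals
    rw [p2]
    intro e3
    simp only [not_and_or, not_not] at e1 e2
  · rcases e1 with e1 | e1
    · exact h1 (by linear_combination e3 - l * l * e1)
    · apply h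
      have : l * κ * (l + 1) = 0 := by linear_combination e3 - e1
      simpa [hl, hκ0, add_eq_zero_iff_eq_neg] using this
  · rcases e2 with e2 | e2
    · exact h1 (by linear_combination e3 - l * l * e2)
    · apply h
      have : l * l * κ * (l + 1) = 0 := by linear_combination e2 - e3
      simpa [hl, hκ0, add_eq_zero_iff_eq_neg] using this

theorem gd_diag3 {l : F} (h1 : l * l ≠ 1) (s t : ℕ) (hd : l ^ s * (-1) ^ t = 1) (hs : l ^ s ≠ 1) :
    Gd ((dg l s).prodMap (dg (-1) t)) := by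
  rcases Nat.even_or_odd' t with ⟨j, rfl | rfl⟩
  · simp [hs] at hd
  have hd' : l ^ s = -1 := by
    rw [pow_succ, pow_mul] at hd
    simp only [even_two, Even.neg_pow, one_pow, mul_neg, mul_one] at hd
    exact neg_eq_iff_eq_neg.mp hd
  obtain ⟨s, rfl⟩ : ∃ s', s = s' + 1 := ⟨s - 1, by
    rcases s with _ | s
    · simp at hs
    · simp⟩
  refine ((gd_diag2 h1 s hd').prod (gd_scalar (V := Fin (2 * j) → F) (l := -1) (by simp))).sim ?_
  exact (sim_assoc _ _ _).trans ((Sim.refl _).prod ((sim_comm _ _).trans (dg_succ _ _).symm))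

theorem gd_diag (hq : 4 ≤ Fintype.card F) {l m : F} (h : l ≠ m) (s t : ℕ)
    (hd : l ^ s * m ^ t = 1) : Gd ((dg l s).prodMap (dg m t)) := by
  by_cases hs : l ^ s = 1
  · exact (gd_scalar (by simpa using hs)).prod (gd_scalar (by simpa [hs] using hd))
  have ht : m ^ t ≠ 1 := fun e => hs (by simpa [e] using hd)
  have hl1 : l ≠ 1 := by rintro rfl; simp at hs
  have hm1 : m ≠ 1 := by rintro rfl; simp at ht
  by_cases e1 : m * m = 1
  · obtain rfl := (mul_self_eq_one_iff.mp e1).resolve_left hm1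
    exact gd_diag3 (fun e => h ((mul_self_eq_one_iff.mp e).resolve_left hl1)) s t hd hs
  by_cases e2 : l * l = 1
  · obtain rfl := (mul_self_eq_one_iff.mp e2).resolve_left hl1
    exact (gd_diag3 e1 t s (by rw [mul_comm]; exact hd) ht).sim (sim_comm _ _)
  rcases s with _ | s
  · simp at hs
  rcases t with _ | t
  · simp at ht
  rcases s with _ | s
  · rcases t with _ | t
    · obtain ⟨c1, c2, c3⟩ := cy_diag h
      exact (gd_two hq c1 c3 (by rw [c2]; simpa using hd)).sim
        ((sim_scalar l (by simp)).prod (sim_scalar m (by simp)))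
    · exact (gd_diag1 h.symm e1 e2 t 0 (by rw [mul_comm]; exact hd)).sim (sim_comm _ _)
  · exact gd_diag1 h e2 e1 s t hd

theorem gd_split (hq : 4 ≤ Fintype.card F) {l m : F} (h : l ≠ m) (f : End F V)
    (hf : aeval f ((X - C l) * (X - C m)) = 0) (hd : LinearMap.det f = 1) : Gd f := by
  have hc : IsCoprime (X - C l) (X - C m : F[X]) := cop_X (by simpa [sub_eq_zero] using h)
  have hcomp : IsCompl (LinearMap.ker (aeval f (X - C l))) (LinearMap.ker (aeval f (X - C m))) :=
    ⟨disjoint_ker_aeval_of_isCoprime f hc, codisjoint_iff.mpr (by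
      rw [sup_ker_aeval_eq_ker_aeval_mul_of_coprime f hc, hf, LinearMap.ker_zero])⟩
  have key : ∀ a : F, ∀ x : LinearMap.ker (aeval f (X - C a)), f x = a • (x : V) := fun a x => by
    have := LinearMap.mem_ker.mp x.2
    simpa [sub_eq_zero] using this
  have hs : Sim ((dg l (finrank F (LinearMap.ker (aeval f (X - C l))))).prodMap
      (dg m (finrank F (LinearMap.ker (aeval f (X - C m)))))) f :=
    ((sim_scalar l (by simp)).prod (sim_scalar m (by simp))).trans
      ⟨Submodule.prodEquivOfIsCompl _ _ hcomp, fun x => by simp [key]⟩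
  refine (gd_diag hq h _ _ ?_).sim hs
  have := hs.det
  rw [hd, LinearMap.det_prodMap] at this
  simpa using this

theorem gd_big (hq : 4 ≤ Fintype.card F) (f : End F V) (hd : LinearMap.det f = 1) : Gd f := by
  rcases Nat.eq_zero_or_pos (finrank F V) with h0 | h0
  · haveI : Subsingleton V := Module.finrank_zero_iff.mp h0
    exact gd_zero _
  obtain ⟨Z, U, c, g, h1, h3, h4, h5⟩ := split_cyclic f h0
  by_cases e3 : 3 ≤ (minpoly F f).natDegree
  · have hdd := h4.det
    rw [hd, LinearMap.det_prodMap, h1.det] at hdd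
    have n1 := left_ne_zero_of_mul (hdd ▸ one_ne_zero)
    have n2 := right_ne_zero_of_mul (hdd ▸ one_ne_zero)
    obtain ⟨t, ht, k⟩ := ch0_all hq g n2 1 one_ne_zero
    have := k.prod_ch (ch_flex hq h1 n1 (h1.2.1 ▸ e3) (by simpa using n2) (inv_ne_zero ht))
    rw [mul_inv_cancel₀ ht, show 1 * LinearMap.det g * dt (minpoly F f) = 1 by
      linear_combination -hdd] at this
    exact this.st.gd.sim ((sim_comm _ _).trans h4.symm)
  have hf := minpoly.aeval F f
  by_cases e1 : (minpoly F f).natDegree = 1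
  · rw [monic_deg_one h1.1 e1, map_sub, aeval_X, aeval_C, sub_eq_zero] at hf
    have e : f = dt (minpoly F f) • LinearMap.id := hf
    rw [e] at hd ⊢
    exact gd_scalar (by simpa using hd)
  have e2 : (minpoly F f).natDegree = 2 := by omega
  by_cases hr : ∃ l, (minpoly F f).IsRoot l
  · obtain ⟨l, hl⟩ := hr
    obtain ⟨k, hk⟩ := dvd_iff_isRoot.mpr hl
    have hkm : k.Monic := (monic_X_sub_C l).of_mul_monic_left (hk ▸ h1.1)
    have hk1 : k.natDegree = 1 := by
      rw [hk, (monic_X_sub_C l).natDegree_mul hkm, natDegree_X_sub_C] at e2; omega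
    rw [monic_deg_one hkm hk1] at hk
    by_cases e : l = dt k
    · exact gd_jordan hq f (by rw [hk, ← e, pow_two]) hd
    · exact gd_split hq e f (hk ▸ hf) hd
  · refine gd_homog hq e2 (fun p hp h0 h => ?_) f hf hd
    have := natDegree_le_of_dvd h h1.1.ne_zero
    by_cases e : p.natDegree = 1
    · exact absurd ⟨_, dvd_iff_isRoot.mp (monic_deg_one hp e ▸ h)⟩ hr
    · exact (eq_of_monic_of_dvd_of_natDegree_le hp h1.1 h (by omega)).symm

end Cfsg.Agent.Com
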