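import Mathlib
import Cfsg.Agent.Elu.Cmt4

/-! Commutators in special linear groups: explicit small cases. -/

set_option autoImplicit false
set_option backward.isDefEq.respectTransparency false

namespace Cfsg.Agent.Com

open Polynomial Module

universe u

section
variable {F : Type u} [Field F]
variable {V W V' W' : Type u} [AddCommGroup V] [Module F V] [AddCommGroup W] [Module F W]
  [AddCommGroup V'] [Module F V'] [AddCommGroup W'] [Module F W']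

/-- A two by two matrix. -/
def l2 (a b c d : F) : End F (F × F) where
  toFun x := (a * x.1 + b * x.2, c * x.1 + d * x.2)
  map_add' x y := by ext <;> simp <;> ring
  map_smul' r x := by ext <;> simp <;> ring

@[simp] theorem l2_apply (a b c d : F) (x : F × F) :
    l2 a b c d x = (a * x.1 + b * x.2, c * x.1 + d * x.2) := rfl

/-- A block matrix. -/
def blk (A : V →ₗ[F] V') (B : W →ₗ[F] V') (C : V →ₗ[F] W') (D : W →ₗ[F] W') :
    V × W →ₗ[F] V' × W' where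
  toFun x := (A x.1 + B x.2, C x.1 + D x.2)
  map_add' x y := by ext <;> simp <;> abel
  map_smul' r x := by ext <;> simp

theorem gd_fun [FiniteDimensional F V] (f T e : End F V) (k : ℕ)
    (hk : ∀ x : F, x ^ (k + 1) = 1 → x = 1) (hT : ∀ x, T^[k + 1] x = x)
    (he : ∀ x, e^[k + 1] x = x) (h : ∀ x, e (f (T x)) = T (e x)) : Gd f := by
  have key : ∀ S : End F V, (∀ x, S^[k + 1] x = x) → LinearMap.det S = 1 := fun S hS => hk _ (by
    rw [← map_pow, show S ^ (k + 1) = 1 from LinearMap.ext (fun x => by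
      rw [End.pow_apply, hS]; rfl), map_one])
  have hu : IsUnit (LinearMap.det e) := by rw [key e he]; exact isUnit_one
  exact ⟨T, LinearMap.equivOfIsUnitDet hu, key T hT, by
    rw [LinearMap.coe_equivOfIsUnitDet, key e he], fun x => by
    rw [LinearMap.equivOfIsUnitDet_apply, LinearMap.equivOfIsUnitDet_apply, h]⟩

theorem cy_l2 (a b c d : F) (hc : c ≠ 0) : Cy (l2 a b c d) (qd (a + d) (a * d - b * c)) := by
  refine cy_of_gen (qd_monic _ _) (by simp [qd_natDegree]) (v := (1, 0)) ?_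
    (fun w => ⟨C (w.1 - a * (w.2 / c)) + C (w.2 / c) * X, ?_⟩)
  · simp [qd, pow_two]; constructor <;> ring
  · ext <;> simp <;> field_simp
    ring

theorem rz_m2 (β γ a b c d : F) (h1 : c ≠ 0) (h2 : a + γ * c ≠ 0) :
    Rz (m2 0 β γ) (qd (a + d) (a * d - b * c)) (qd (β * c + (b + γ * d)) (-β * (a * d - b * c))) := by
  refine ⟨l2 a b c d, cy_l2 a b c d h1, ?_⟩
  have := cy_l2 (β * c) (β * d) (a + γ * c) (b + γ * d) h2
  convert this using 1
  · refine LinearMap.ext (fun x => ?_)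
    ext <;> simp <;> ring
  · congr 1; ring

theorem monic_deg_two {p : F[X]} (hp : p.Monic) (h : p.natDegree = 2) :
    p = qd (-p.coeff 1) (dt p) := by
  rw [dt, h]
  conv_lhs => rw [hp.as_sum, h]
  simp [qd, Finset.sum_range_succ]; ring

theorem Cy.sim_m2 [FiniteDimensional F V] {c : End F V} {p : F[X]} (h : Cy c p)
    (h2 : p.natDegree = 2) : Sim (m2 0 (-dt p) (-p.coeff 1)) c := by
  have := cy_m2 0 (-dt p) (-p.coeff 1)
  rw [zero_add, zero_mul, zero_sub, neg_neg, ← monic_deg_two h.1 h2] at this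
  exact this.sim h

end

theorem gd3_00 : Gd ((m2 (0 : ZMod 3) 1 0).prodMap (m2 0 1 0)) :=
  gd_fun _ (blk (l2 2 0 2 1) (l2 0 2 0 1) (l2 0 0 2 0) (l2 0 1 1 1))
    (blk (l2 1 2 0 2) (l2 1 0 2 0) (l2 0 2 0 0) (l2 1 1 1 0))
    2 (by decide) (by decide +kernel) (by decide +kernel) (by decide +kernel)

theorem gd3_01 : Gd ((m2 (0 : ZMod 3) 1 0).prodMap (m2 0 1 1)) :=
  gd_fun _ (blk (l2 2 2 2 2) (l2 0 2 0 1) (l2 2 2 0 1) (l2 2 1 1 1))
    (blk (l2 2 2 0 1) (l2 2 2 0 0) (l2 1 2 1 2) (l2 0 2 2 1))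
    2 (by decide) (by decide +kernel) (by decide +kernel) (by decide +kernel)

theorem gd3_02 : Gd ((m2 (0 : ZMod 3) 1 0).prodMap (m2 0 1 2)) :=
  gd_fun _ (blk (l2 0 1 1 0) (l2 0 1 0 2) (l2 0 0 1 2) (l2 1 2 0 0))
    (blk (l2 0 1 1 0) (l2 2 1 1 2) (l2 0 2 0 0) (l2 0 0 0 1))
    2 (by decide) (by decide +kernel) (by decide +kernel) (by decide +kernel)

theorem gd3_10 : Gd ((m2 (0 : ZMod 3) 1 1).prodMap (m2 0 1 0)) :=
  gd_fun _ (blk (l2 2 1 1 1) (l2 2 2 1 0) (l2 0 1 0 2) (l2 2 2 2 2))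
    (blk (l2 0 2 2 1) (l2 2 1 2 1) (l2 0 0 2 2) (l2 1 0 2 2))
    2 (by decide) (by decide +kernel) (by decide +kernel) (by decide +kernel)

theorem gd3_11 : Gd ((m2 (0 : ZMod 3) 1 1).prodMap (m2 0 1 1)) :=
  gd_fun _ (blk (l2 0 1 2 2) (l2 2 1 2 0) (l2 1 2 1 1) (l2 1 2 2 2))
    (blk (l2 2 0 2 0) (l2 1 2 0 2) (l2 0 2 1 1) (l2 1 0 1 2))
    4 (by decide) (by decide +kernel) (by decide +kernel) (by decide +kernel)

theorem gd3_12 : Gd ((m2 (0 : ZMod 3) 1 1).prodMap (m2 0 1 2)) :=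
  gd_fun _ (blk (l2 1 0 1 1) (l2 0 0 0 1) (l2 2 0 0 1) (l2 1 2 1 1))
    (blk (l2 0 2 1 2) (l2 1 1 2 0) (l2 0 0 1 1) (l2 1 1 2 1))
    2 (by decide) (by decide +kernel) (by decide +kernel) (by decide +kernel)

theorem gd3_20 : Gd ((m2 (0 : ZMod 3) 1 2).prodMap (m2 0 1 0)) :=
  gd_fun _ (blk (l2 0 2 1 0) (l2 2 1 0 0) (l2 1 0 2 1) (l2 0 1 0 1))
    (blk (l2 0 2 1 0) (l2 0 0 2 1) (l2 2 1 1 2) (l2 2 2 2 2))
    2 (by decide) (by decide +kernel) (by decide +kernel) (by decide +kernel)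

theorem gd3_21 : Gd ((m2 (0 : ZMod 3) 1 2).prodMap (m2 0 1 1)) :=
  gd_fun _ (blk (l2 0 2 2 2) (l2 1 2 1 0) (l2 0 0 2 1) (l2 1 0 1 1))
    (blk (l2 2 1 1 0) (l2 2 2 0 0) (l2 2 0 0 1) (l2 0 2 1 2))
    2 (by decide) (by decide +kernel) (by decide +kernel) (by decide +kernel)

theorem gd3_22 : Gd ((m2 (0 : ZMod 3) 1 2).prodMap (m2 0 1 2)) :=
  gd_fun _ (blk (l2 1 2 1 1) (l2 1 1 2 1) (l2 1 2 2 1) (l2 2 2 2 1))
    (blk (l2 0 1 1 2) (l2 2 2 2 0) (l2 1 2 2 1) (l2 0 2 0 0))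
    4 (by decide) (by decide +kernel) (by decide +kernel) (by decide +kernel)

theorem gd2_1J : Gd ((sc (1 : ZMod 2)).prodMap (m2 0 1 0)) :=
  gd_fun _ (blk (sc 1) ((sc 1).coprod (sc 1)) ((sc 0).prod (sc 1)) (l2 0 1 0 1))
    (blk (sc 0) ((sc 1).coprod (sc 1)) ((sc 0).prod (sc 1)) (l2 1 0 0 1))
    2 (by decide) (by decide +kernel) (by decide +kernel) (by decide +kernel)

theorem gd2_JJJ : Gd ((m2 (0 : ZMod 2) 1 0).prodMap ((m2 0 1 0).prodMap (m2 0 1 0))) :=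
  gd_fun _ (blk (l2 0 0 0 0) ((l2 1 1 0 0).coprod (l2 1 0 0 1)) ((l2 1 0 0 1).prod (l2 1 0 1 0))
      (blk (l2 1 0 1 0) (l2 1 1 0 0) (l2 0 0 1 1) (l2 0 1 0 1)))
    (blk (l2 1 0 0 1) ((l2 1 1 0 0).coprod (l2 0 1 1 0)) ((l2 1 0 1 0).prod (l2 0 1 1 0))
      (blk (l2 1 0 1 0) (l2 1 0 0 1) (l2 0 0 0 0) (l2 0 0 1 1)))
    2 (by decide) (by decide +kernel) (by decide +kernel) (by decide +kernel)

end Cfsg.Agent.Com
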