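import Mathlib
import Cfsg.Agent.Elu.Cmt5

/-! Commutators in special linear groups over the fields with two and three elements. -/

set_option autoImplicit false
set_option backward.isDefEq.respectTransparency false

namespace Cfsg.Agent.Com

open Polynomial Module

universe u

section
variable {F : Type u} [Field F]
variable {V W : Type u} [AddCommGroup V] [Module F V] [AddCommGroup W] [Module F W]
variable [FiniteDimensional F V] [FiniteDimensional F W]

theorem irr_qd {s δ : F} (h : ∀ x : F, x ^ 2 - s * x + δ ≠ 0) : Irreducible (qd s δ) :=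
  irreducible_of_degree_le_three_of_not_isRoot (by rw [qd_natDegree]; decide)
    (fun x hx => h x (by rwa [IsRoot, eval_qd] at hx))

theorem mon2 (a b : F) (i j : ℕ) : ((X - C a) ^ i * (X - C b) ^ j).Monic ∧
    ((X - C a) ^ i * (X - C b) ^ j).natDegree = i + j ∧
    dt ((X - C a) ^ i * (X - C b) ^ j) = a ^ i * b ^ j := by
  have h1 := (monic_X_sub_C a).pow i
  have h2 := (monic_X_sub_C b).pow j
  exact ⟨h1.mul h2, by rw [h1.natDegree_mul h2]; simp, by
    rw [dt_mul h1 h2, dt_pow (monic_X_sub_C a), dt_pow (monic_X_sub_C b), dt_X_sub_C, dt_X_sub_C]⟩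

theorem mon3 (a b s δ : F) (i j : ℕ) : (qd s δ * ((X - C a) ^ i * (X - C b) ^ j)).Monic ∧
    (qd s δ * ((X - C a) ^ i * (X - C b) ^ j)).natDegree = i + j + 2 ∧
    dt (qd s δ * ((X - C a) ^ i * (X - C b) ^ j)) = δ * (a ^ i * b ^ j) := by
  obtain ⟨h1, h2, h3⟩ := mon2 a b i j
  exact ⟨(qd_monic s δ).mul h1, by rw [(qd_monic s δ).natDegree_mul h1, h2, qd_natDegree, add_comm],
    by rw [dt_mul (qd_monic s δ) h1, dt_qd, h3]⟩

theorem cop_qd {s δ : F} (h : ∀ x : F, x ^ 2 - s * x + δ ≠ 0) (a : F) (i : ℕ) :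
    IsCoprime (qd s δ) ((X - C a) ^ i) :=
  (cop_X (by rw [eval_qd]; exact h a)).symm.pow_right

theorem rz_pow_inv {A : End F V} {f : F[X]} (hA : Cy A f) (hd : dt f ≠ 0) {k : ℕ}
    (hn : finrank F V = k + 1) {a b : F} (hb : b ≠ 0) (hab : b ≠ a) {τ : F[X]} (hp : τ.Monic)
    (hpd : τ.natDegree = k + 1) (hdt : dt τ * dt f = a * b ^ k) :
    Rz A τ ((X - C a) * (X - C b) ^ k) := by
  obtain ⟨B, g, h1, h2, h3⟩ := hA.inv hd
  exact h3 _ _ (rz_pow h1 (by rw [h2]; exact inv_ne_zero hd) hn hb hab hp hpd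
    (by rw [h2, ← hdt]; field_simp))

theorem rz_two_inv {A : End F V} {f : F[X]} (hA : Cy A f) (hd : dt f ≠ 0) {k : ℕ}
    (hn : finrank F V = k + 3) {a b : F} (ha : a ≠ 0) (hb : b ≠ 0) {s δ : F}
    (h1 : (qd s δ).eval a ≠ 0) (h2 : (qd s δ).eval b ≠ 0) {τ : F[X]} (hp : τ.Monic)
    (hpd : τ.natDegree = k + 3) (hdt : dt τ * dt f = a * b ^ k * δ) :
    Rz A τ ((X - C a) * ((X - C b) ^ k * qd s δ)) := by
  obtain ⟨B, g, k1, k2, k3⟩ := hA.inv hd
  exact k3 _ _ (rz_two' k1 (by rw [k2]; exact inv_ne_zero hd) hn ha hb h1 h2 hp hpd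
    (by rw [k2, ← hdt]; field_simp))

variable [Finite F]

theorem st_three {c : End F V} {p : F[X]} (h : Cy c p) (hd : dt p = 1) (hn : 3 ≤ finrank F V)
    {s δ : F} (hq : ∀ x : F, x ^ 2 - s * x + δ ≠ 0) : St c δ := by
  obtain ⟨k, hk⟩ : ∃ k, finrank F V = k + 3 := ⟨finrank F V - 3, by omega⟩
  obtain ⟨m1, m2, m3⟩ := mon3 1 1 s δ 1 k
  have h1 : (qd s δ).eval 1 ≠ 0 := by rw [eval_qd]; exact hq 1
  have := rz_two' h (by simp [hd]) hk one_ne_zero one_ne_zero h1 h1 m1 (by omega)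
    (by rw [m3, hd]; ring)
  rw [show (X - C (1 : F)) * ((X - C 1) ^ k * qd s δ) = qd s δ * ((X - C 1) ^ 1 * (X - C 1) ^ k) by
    ring] at this
  have := this.st (qd_monic s δ) (irr_qd hq) ((cop_qd hq 1 1).mul_right (cop_qd hq 1 k))
  rw [m3] at this
  simpa using this

theorem st_neg {c : End F V} {p : F[X]} (h : Cy c p) (hd : dt p = 1) (hn : 0 < finrank F V)
    (hne : (-1 : F) ≠ 1) : St c (-1) := by
  obtain ⟨k, hk⟩ : ∃ k, finrank F V = k + 1 := ⟨finrank F V - 1, by omega⟩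
  obtain ⟨m1, m2, m3⟩ := mon2 (-1 : F) 1 1 k
  rw [pow_one] at m1 m2 m3
  have := (rz_pow h (by simp [hd]) hk one_ne_zero hne.symm m1 (by omega) (by rw [m3, hd]; ring)).st
    (monic_X_sub_C _) (irreducible_X_sub_C _) (cop_X (by simp [sub_eq_zero, hne]))
  rw [m3] at this
  simpa using this

theorem st_pairA {c : End F V} {p : F[X]} {c' : End F W} {p' : F[X]} (h : Cy c p) (hd : dt p = -1)
    (h' : Cy c' p') (hd' : dt p' = -1) (hn : 0 < finrank F V) {j : ℕ} (hj : finrank F W = j + 3)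
    (hne : (-1 : F) ≠ 1) {s δ : F} (hq : ∀ x : F, x ^ 2 - s * x + δ ≠ 0) :
    St (c.prodMap c') (δ * (-1) ^ (j + 1)) := by
  obtain ⟨k, hk⟩ : ∃ k, finrank F V = k + 1 := ⟨finrank F V - 1, by omega⟩
  have h1 : (qd s δ).eval (-1) ≠ 0 := by rw [eval_qd]; exact hq _
  obtain ⟨m1, m2, m3⟩ := mon3 (-1) 1 s δ j 1
  have r1 := rz_pow_inv h (by simp [hd]) hk one_ne_zero hne.symm ((monic_X_sub_C 1).pow (k + 1))
    (by rw [(monic_X_sub_C _).natDegree_pow, natDegree_X_sub_C, mul_one])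
    (by rw [dt_pow (monic_X_sub_C 1), dt_X_sub_C, hd]; ring)
  have r2 := rz_two' h' (by simp [hd']) hj (by simp) (by simp) h1 h1 m1 (by omega)
    (by rw [m3, hd']; ring)
  have c1 : IsCoprime (X - C (1 : F)) (X - C (-1)) := 
    cop_X (by rw [eval_sub, eval_X, eval_C, sub_ne_zero]; exact hne.symm)
  have := link (by simp [h.det, hd]) r1 r2
    ((c1.mul_right (c1.pow_right.mul_right (cop_X (by rw [eval_qd]; exact hq _)))).pow_left)
    (by ring) (by omega)
  rw [show (X - C (1 : F)) ^ (k + 1) * ((X - C (-1)) * ((X - C (-1)) ^ j * qd s δ)) =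
    qd s δ * ((X - C 1) ^ (k + 1) * (X - C (-1)) ^ (j + 1)) by ring] at this
  have := this.st (qd_monic s δ) (irr_qd hq) ((cop_qd hq _ _).mul_right (cop_qd hq _ _))
  rw [(mon3 1 (-1) s δ (k + 1) (j + 1)).2.2] at this
  simpa using this

theorem st_pairB {c : End F V} {p : F[X]} {c' : End F W} {p' : F[X]} (h : Cy c p) (hd : dt p = -1)
    (h' : Cy c' p') (hd' : dt p' = -1) (hn : finrank F V = 1) {j : ℕ} (hj : finrank F W = j + 1)
    {ε : F} (hne : -ε ≠ ε) : St (c.prodMap c') (ε * (-ε) ^ (j + 1)) := by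
  have h0 : -ε ≠ 0 := by rintro e; apply hne; rw [e, neg_eq_zero.mp e]
  have r1 := rz_pow h (by simp [hd]) (k := 0) hn h0 hne (monic_X_sub_C (-ε)) (by simp)
    (by rw [dt_X_sub_C, hd]; ring)
  have r2 := rz_pow_inv h' (by simp [hd']) hj h0 hne ((monic_X_sub_C (-ε)).pow (j + 1))
    (by rw [(monic_X_sub_C _).natDegree_pow, natDegree_X_sub_C, mul_one])
    (by rw [dt_pow (monic_X_sub_C _), dt_X_sub_C, hd']; ring)
  rw [pow_zero, mul_one] at r1
  have c1 : IsCoprime (X - C ε) ((X - C (-ε)) ^ (j + 1)) :=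
    (cop_X (by rw [eval_sub, eval_X, eval_C, sub_ne_zero]; exact hne.symm)).pow_right
  have := (link (by simp [h.det, hd]) r1 r2 c1 (by ring) (by omega)).st (monic_X_sub_C _)
    (irreducible_X_sub_C _) c1
  rwa [dt_mul (monic_X_sub_C _) ((monic_X_sub_C _).pow _), dt_pow (monic_X_sub_C _), dt_X_sub_C,
    dt_X_sub_C] at this

theorem st_pairC {c : End F V} {p : F[X]} {c' : End F W} {p' : F[X]} (h : Cy c p) (hd : dt p = -1)
    (h' : Cy c' p') (hd' : dt p' = -1) (hn : finrank F V = 2) (hj : finrank F W = 2)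
    (hne : (-1 : F) ≠ 1) (hq : ∀ x : F, x ^ 2 - 0 * x + 1 ≠ 0) : St (c.prodMap c') (-1) := by
  have r1 := rz_pow h (by simp [hd]) (k := 1) hn (a := 1) (b := -1) (by simp) hne (qd_monic 0 1)
    (qd_natDegree _ _) (by rw [dt_qd, hd]; ring)
  have r2 := rz_pow_inv h' (by simp [hd']) (k := 1) hj (a := 1) (b := -1) (by simp) hne
    (qd_monic 0 1) (qd_natDegree _ _) (by rw [dt_qd, hd']; ring)
  have c1 := (cop_qd hq 1 1).mul_right (cop_qd hq (-1) 1)
  have := link (by simp [h.det, hd]) r1 r2 (by simpa using c1.symm) (by ring) (by omega)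
  rw [show (X - C (1 : F)) * (X - C (-1)) ^ 1 * qd 0 1 =
    qd 0 1 * ((X - C 1) ^ 1 * (X - C (-1)) ^ 1) by ring] at this
  have := this.st (qd_monic _ _) (irr_qd hq) c1
  rw [(mon3 1 (-1) 0 1 1 1).2.2] at this
  simpa using this

end

section
variable {V W : Type} [AddCommGroup V] [Module (ZMod 3) V] [AddCommGroup W] [Module (ZMod 3) W]
variable [FiniteDimensional (ZMod 3) V] [FiniteDimensional (ZMod 3) W]

/-- The invariant over the field with three elements. -/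
def I3 (f : End (ZMod 3) V) : Prop :=
  Subsingleton V ∨ (St f (-1) ∧ Wk f 1 ∧ (finrank (ZMod 3) V ≠ 2 → Gd f))

omit [FiniteDimensional (ZMod 3) V] [FiniteDimensional (ZMod 3) W] in
theorem I3.sim {f : End (ZMod 3) V} {g : End (ZMod 3) W} (h : I3 g) (hs : Sim f g) : I3 f := by
  rcases h with h | ⟨h1, h2, h3⟩
  · obtain ⟨e, -⟩ := hs
    exact Or.inl e.injective.subsingleton
  · exact Or.inr ⟨h1.sim hs.symm, h2.sim hs.symm, fun h => (h3 (hs.finrank ▸ h)).sim hs.symm⟩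

omit [FiniteDimensional (ZMod 3) V] in
theorem i3_of {f : End (ZMod 3) V} (h1 : St f (-1)) (h2 : Gd f) : I3 f :=
  Or.inr ⟨h1, h2.wk, fun _ => h2⟩

theorem I3.prod {f : End (ZMod 3) V} {g : End (ZMod 3) W} (h : I3 f) (h' : I3 g) :
    I3 (f.prodMap g) := by
  rcases h' with h' | ⟨b1, b2, b3⟩
  · exact h.sim (sim_zero _ _)
  rcases h with h | ⟨a1, a2, a3⟩
  · exact I3.sim (Or.inr ⟨b1, b2, b3⟩) ((sim_comm _ _).trans (sim_zero _ _))
  exact i3_of (by simpa using a1.prod b2) (St.gd (by simpa using a1.prod b1.wk))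

theorem i3_block {c : End (ZMod 3) V} {p : (ZMod 3)[X]} (h : Cy c p) (h0 : 0 < p.natDegree)
    (hd : dt p = 1) : I3 c := by
  have hn := h.2.1
  have h1 := st_neg h hd (by omega) (by decide)
  by_cases e3 : 3 ≤ finrank (ZMod 3) V
  · exact i3_of h1 (st_three h hd e3 (s := 0) (by decide)).gd
  by_cases e1 : p.natDegree = 1
  · rw [monic_deg_one h.1 e1, hd] at h
    refine i3_of h1 ?_
    rw [h.eq_scalar.1]
    exact gd_scalar (by simp)
  refine Or.inr ⟨h1, ?_, fun e => by omega⟩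
  have hs := h.sim_m2 (by omega)
  rw [hd] at hs
  obtain ⟨a, b, c, d, k1, k2, k3, k4⟩ := (by decide : ∀ s : ZMod 3, ∃ a b c d : ZMod 3, c ≠ 0 ∧
    a + s * c ≠ 0 ∧ a * d - b * c = 1 ∧ -1 * c + (b + s * d) = a + d) (-p.coeff 1)
  obtain ⟨T, t1, t2⟩ := rz_m2 (-1) (-p.coeff 1) a b c d k1 k2
  rw [k3, k4] at t2
  rw [k3] at t1
  exact Wk.sim ⟨T, by rw [t1.det, dt_qd], Cy.sim (by simpa using t2) t1⟩ hs

theorem i3_A {c : End (ZMod 3) V} {p : (ZMod 3)[X]} {c' : End (ZMod 3) W} {p' : (ZMod 3)[X]}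
    (h : Cy c p) (hd : dt p = -1) (h' : Cy c' p') (hd' : dt p' = -1) (hn : 0 < finrank (ZMod 3) V)
    (hj : 3 ≤ finrank (ZMod 3) W) : I3 (c.prodMap c') := by
  obtain ⟨j, hj⟩ : ∃ k, finrank (ZMod 3) W = k + 3 := ⟨finrank (ZMod 3) W - 3, by omega⟩
  have k1 := st_pairA h hd h' hd' hn hj (by decide) (s := 0) (δ := 1) (by decide)
  have k2 := st_pairA h hd h' hd' hn hj (by decide) (s := 1) (δ := -1) (by decide)
  rcases neg_one_pow_eq_or (ZMod 3) (j + 1) with e | e <;> rw [e] at k1 k2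
  · exact i3_of (by simpa using k2) (St.gd (by simpa using k1))
  · exact i3_of (by simpa using k1) (St.gd (by simpa using k2))

theorem i3_B {c : End (ZMod 3) V} {p : (ZMod 3)[X]} {c' : End (ZMod 3) W} {p' : (ZMod 3)[X]}
    (h : Cy c p) (hd : dt p = -1) (h' : Cy c' p') (hd' : dt p' = -1) (hn : finrank (ZMod 3) V = 1)
    (hj : finrank (ZMod 3) W = 2) : I3 (c.prodMap c') :=
  i3_of (by simpa using st_pairB h hd h' hd' hn (j := 1) hj (ε := -1) (by decide))
    (St.gd (by simpa using st_pairB h hd h' hd' hn (j := 1) hj (ε := 1) (by decide)))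

theorem gd3_all (s t : ZMod 3) : Gd ((m2 (0 : ZMod 3) 1 s).prodMap (m2 0 1 t)) := by
  rcases (by decide : ∀ s : ZMod 3, s = 0 ∨ s = 1 ∨ s = 2) s with rfl | rfl | rfl <;>
  rcases (by decide : ∀ s : ZMod 3, s = 0 ∨ s = 1 ∨ s = 2) t with rfl | rfl | rfl
  exacts [gd3_00, gd3_01, gd3_02, gd3_10, gd3_11, gd3_12, gd3_20, gd3_21, gd3_22]

theorem i3_pair {c : End (ZMod 3) V} {p : (ZMod 3)[X]} {c' : End (ZMod 3) W} {p' : (ZMod 3)[X]}
    (h : Cy c p) (hd : dt p = -1) (h' : Cy c' p') (hd' : dt p' = -1) (h0 : 0 < p.natDegree)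
    (h0' : 0 < p'.natDegree) : I3 (c.prodMap c') := by
  have hn := h.2.1
  have hn' := h'.2.1
  by_cases e3 : 3 ≤ finrank (ZMod 3) W
  · exact i3_A h hd h' hd' (by omega) e3
  by_cases e3' : 3 ≤ finrank (ZMod 3) V
  · exact (i3_A h' hd' h hd (by omega) e3').sim (sim_comm _ _)
  by_cases e1 : p.natDegree = 1 <;> by_cases e1' : p'.natDegree = 1
  · have k := st_pairB h hd h' hd' (by omega) (j := 0) (by omega) (ε := 1) (by decide)
    refine Or.inr ⟨by simpa using k, ?_, fun e => absurd (by rw [finrank_prod]; omega) e⟩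
    rw [monic_deg_one h.1 e1, hd] at h
    rw [monic_deg_one h'.1 e1', hd'] at h'
    rw [h.eq_scalar.1, h'.eq_scalar.1]
    exact ((gd_scalar (V := V × W) (l := -1) (by
      rw [finrank_prod, h.eq_scalar.2, h'.eq_scalar.2]; simp)).sim
      (sim_scalar_add _ finrank_prod)).wk
  · exact i3_B h hd h' hd' (by omega) (by omega)
  · exact (i3_B h' hd' h hd (by omega) (by omega)).sim (sim_comm _ _)
  · refine i3_of (st_pairC h hd h' hd' (by omega) (by omega) (by decide) (by decide)) ?_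
    have s1 := h.sim_m2 (by omega)
    have s2 := h'.sim_m2 (by omega)
    rw [hd, neg_neg] at s1
    rw [hd', neg_neg] at s2
    exact (gd3_all _ _).sim (s1.prod s2)

theorem gd_three (f : End (ZMod 3) V) (hd : LinearMap.det f = 1) (hn : 3 ≤ finrank (ZMod 3) V) :
    Gd f := by
  have := pair_ind f.charpoly (fun V _ _ _ f => I3 f) (fun _ _ _ _ _ _ _ _ _ _ hs h => h.sim hs)
    (fun V _ _ _ f h => Or.inl h) (fun _ _ _ _ _ _ _ _ _ _ h h' => h.prod h')
    (fun p a b c => ?_) (fun V _ _ _ c p a b _ e => i3_block a b e)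
    (fun V W _ _ _ _ _ _ c p c' p' a1 a2 _ a4 b1 b2 _ b4 _ => i3_pair a1 a4 b1 b4 a2 b2) f
    f.aeval_self_charpoly hd
  · rcases this with h | h
    · exact gd_zero f
    · exact h.2.2 (by omega)
  · obtain ⟨k, hk⟩ := c
    have hm : k.Monic := a.of_mul_monic_left (hk ▸ f.charpoly_monic)
    rw [det_eq_dt, hk, dt_mul a hm] at hd
    exact (by decide : ∀ x y : ZMod 3, x * y = 1 → x = 1 ∨ x = -1) _ _ hd

end

section
variable {V W : Type} [AddCommGroup V] [Module (ZMod 2) V] [AddCommGroup W] [Module (ZMod 2) W]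
variable [FiniteDimensional (ZMod 2) V] [FiniteDimensional (ZMod 2) W]

/-- The transvection of the plane. -/
abbrev JJ : End (ZMod 2) (ZMod 2 × ZMod 2) := m2 0 1 0

theorem qd01 : qd (0 : ZMod 2) 1 = (X - C 1) ^ 2 := by
  have : (2 : (ZMod 2)[X]) = 0 := CharTwo.two_eq_zero
  simp only [qd, map_zero, map_one]
  linear_combination X * this

theorem hw2 : ∀ x : ZMod 2, x ^ 2 - 1 * x + 1 ≠ 0 := by decide

theorem cy_J : Cy JJ ((X - C 1) ^ 2) := by
  rw [← qd01]; exact cy_m2 (0 : ZMod 2) 1 0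

theorem rz_J1 : Rz JJ (qd 1 1) ((X - C 1) ^ 2) := by
  rw [← qd01]; exact rz_m2 (1 : ZMod 2) 0 1 1 1 0 (by decide) (by decide)

theorem rz_J2 : Rz JJ ((X - C 1) ^ 2) (qd 1 1) := by
  rw [← qd01]; exact rz_m2 (1 : ZMod 2) 0 1 0 1 1 (by decide) (by decide)

theorem det_J : LinearMap.det JJ ≠ 0 := by
  rw [cy_J.det, dt_pow (monic_X_sub_C _), dt_X_sub_C]; simp

theorem gd_JJ : Gd (JJ.prodMap JJ) := by
  have := (link det_J rz_J1 rz_J2 (cop_qd hw2 _ _) (by ring) (by simp)).st (qd_monic _ _)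
    (irr_qd hw2) (cop_qd hw2 _ _)
  rw [dt_mul (qd_monic _ _) ((monic_X_sub_C _).pow _), dt_qd, dt_pow (monic_X_sub_C _),
    dt_X_sub_C] at this
  exact St.gd (by simpa using this)

theorem gd_W : Gd (m2 (0 : ZMod 2) 1 1) := by
  obtain ⟨T, t1, t2⟩ : Rz (m2 (0 : ZMod 2) 1 1) (qd 0 1) (qd 0 1) :=
    rz_m2 (1 : ZMod 2) 1 0 1 1 0 (by decide) (by decide)
  obtain ⟨e, he⟩ := t2.sim t1
  exact ⟨T, e, by rw [t1.det, dt_qd], (by decide : ∀ x : ZMod 2, x ≠ 0 → x = 1) _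
    (LinearEquiv.isUnit_det' e).ne_zero, he⟩

theorem block2 {c : End (ZMod 2) V} {p : (ZMod 2)[X]} (h : Cy c p) (h0 : 0 < p.natDegree)
    (hd : dt p = 1) : (Gd c ∨ Sim c JJ) ∧ Gd (c.prodMap JJ) := by
  have hn := h.2.1
  by_cases e3 : 3 ≤ finrank (ZMod 2) V
  · refine ⟨Or.inl (st_three h hd e3 hw2).gd, ?_⟩
    obtain ⟨k, hk⟩ : ∃ k, finrank (ZMod 2) V = k + 3 := ⟨finrank (ZMod 2) V - 3, by omega⟩
    have h1 : (qd (1 : ZMod 2) 1).eval 1 ≠ 0 := by rw [eval_qd]; exact hw2 1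
    have r := rz_two_inv h (by simp [hd]) hk one_ne_zero one_ne_zero h1 h1
      ((monic_X_sub_C 1).pow (k + 3))
      (by rw [(monic_X_sub_C _).natDegree_pow, natDegree_X_sub_C, mul_one])
      (by rw [dt_pow (monic_X_sub_C _), dt_X_sub_C, hd]; simp)
    have := (link det_J rz_J1 r (cop_qd hw2 _ _) (by ring) (by omega)).st (qd_monic _ _)
      (irr_qd hw2) (cop_qd hw2 _ _)
    rw [dt_mul (qd_monic _ _) ((monic_X_sub_C _).pow _), dt_qd, dt_pow (monic_X_sub_C _),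
      dt_X_sub_C] at this
    exact (St.gd (by simpa using this)).sim (sim_comm _ _)
  by_cases e1 : p.natDegree = 1
  · rw [monic_deg_one h.1 e1, hd] at h
    have hs := (cy_one (1 : ZMod 2)).sim h
    exact ⟨Or.inl ((gd_scalar (by simp)).sim hs), gd2_1J.sim (hs.prod (Sim.refl _))⟩
  have hs := h.sim_m2 (by omega)
  rw [hd, show (-1 : ZMod 2) = 1 from rfl] at hs
  rcases (by decide : ∀ s : ZMod 2, s = 0 ∨ s = 1) (-p.coeff 1) with e | e <;> rw [e] at hs
  · exact ⟨Or.inr hs.symm, gd_JJ.sim (hs.prod (Sim.refl _))⟩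
  · refine ⟨Or.inl (gd_W.sim hs), Gd.sim ?_ (hs.prod (Sim.refl _))⟩
    have c1 : Cy (m2 (0 : ZMod 2) 1 1) (qd 1 1) := cy_m2 (0 : ZMod 2) 1 1
    exact (st_three (cy_prod c1 cy_J (cop_qd hw2 _ _)) (by
      rw [dt_mul (qd_monic _ _) ((monic_X_sub_C _).pow _), dt_qd, dt_pow (monic_X_sub_C _),
        dt_X_sub_C]; simp) (by simp) hw2).gd

theorem gd_f2 (f : End (ZMod 2) V) (hd : LinearMap.det f = 1) (hn : 3 ≤ finrank (ZMod 2) V) :
    Gd f := by
  have := cyclic_ind 0 (fun V _ _ _ f => LinearMap.det f ≠ 0 → Subsingleton V ∨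
    ((Gd f ∨ Sim f JJ) ∧ Gd (f.prodMap JJ))) ?_ (fun V _ _ _ f h _ => Or.inl h) ?_ f (by simp)
    (by simp [hd])
  · rcases this with h | ⟨h | h, -⟩
    · exact gd_zero f
    · exact h
    · have := h.finrank
      simp at this; omega
  · intro V W _ _ _ _ _ _ f g hs h hf
    rcases h (hs.det ▸ hf) with h | ⟨h1, h2⟩
    · obtain ⟨e, -⟩ := hs
      exact Or.inl e.injective.subsingleton
    · exact Or.inr ⟨h1.imp (fun h => h.sim hs.symm) (fun h => hs.trans h),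
        h2.sim (hs.symm.prod (Sim.refl _))⟩
  · intro V W _ _ _ _ _ _ c p g c1 c2 _ h hd
    rw [LinearMap.det_prodMap, c1.det] at hd
    obtain ⟨b1, b2⟩ := block2 c1 c2 ((by decide : ∀ x : ZMod 2, x ≠ 0 → x = 1) _
      (left_ne_zero_of_mul hd))
    right
    rcases h (right_ne_zero_of_mul hd) with h | ⟨h1, h2⟩
    · have hs := sim_zero c g
      exact ⟨b1.imp (fun h => h.sim hs.symm) (fun h => hs.trans h),
        b2.sim (hs.symm.prod (Sim.refl _))⟩
    rcases b1 with b1 | b1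
    · refine ⟨Or.inl ?_, (b1.prod h2).sim (sim_assoc _ _ _).symm⟩
      rcases h1 with h1 | h1
      · exact b1.prod h1
      · exact b2.sim ((Sim.refl _).prod h1.symm)
    · refine ⟨Or.inl (h2.sim ((sim_comm _ _).trans (b1.symm.prod (Sim.refl _)))), ?_⟩
      rcases h1 with h1 | h1
      · exact (b2.prod h1).sim (((sim_assoc _ _ _).trans ((Sim.refl _).prod (sim_comm _ _))).trans
          (sim_assoc _ _ _).symm)
      · exact gd2_JJJ.sim ((b1.symm.prod (h1.symm.prod (Sim.refl _))).trans (sim_assoc _ _ _).symm)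

end

end Cfsg.Agent.Com
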