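import Mathlib
import Cfsg.Agent.Elu.O8a

/-! Commutator tables. -/

set_option autoImplicit false
set_option maxRecDepth 100000

namespace Cfsg.Agent.OreO.T0

/-- Involutions fixing the first subspace. -/
def LS : List (List ℕ) := [[], [1], [1, 3], [3], [5, 1, 3, 7], [3, 5, 7], [5, 7], [1, 5, 7], [1, 5], [5], [3, 5], [1, 3, 5], [3, 7], [1, 3, 7], [1, 7], [7], [5, 7, 13, 15], [3, 9, 11], [9, 11], [1, 9, 11], [5, 7, 9, 11], [3, 13, 15], [13, 15], [1, 13, 15], [5, 3, 9, 11], [7, 13, 15], [5, 1, 9, 11], [5, 9, 11], [5, 3, 13, 15], [7, 9, 11], [5, 1, 13, 15], [5, 13, 15], [5, 1, 9, 13], [5, 9, 13], [5, 3, 9, 13], [7, 11, 15], [5, 1, 11, 15], [5, 11, 15], [5, 3, 11, 15], [7, 9, 13], [9, 13], [1, 9, 13], [5, 7, 11, 15], [3, 9, 13], [11, 15], [1, 11, 15], [5, 7, 9, 13], [3, 11, 15], [5, 3, 11, 13], [7, 9, 15], [5, 1, 11, 13], [5, 11, 13], [5, 3, 9, 15], [7, 11, 13], [5, 1, 9, 15], [5, 9, 15], [5, 7, 9, 15], [3, 11, 13], [11, 13], [1, 11, 13], [5,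 7, 11, 13], [3, 9, 15], [9, 15], [1, 9, 15], [1, 9], [9], [3, 9], [1, 3, 9], [5, 3, 7, 9], [11, 13, 15], [5, 1, 7, 9], [5, 7, 9], [5, 9], [1, 5, 9], [5, 1, 3, 9], [3, 5, 9], [5, 11, 13, 15], [3, 7, 9], [7, 9], [1, 7, 9], [3, 11], [1, 3, 11], [1, 11], [11], [5, 1, 7, 11], [5, 7, 11], [5, 3, 7, 11], [9, 13, 15], [5, 1, 3, 11], [3, 5, 11], [5, 11], [1, 5, 11], [7, 11], [1, 7, 11], [5, 9, 13, 15], [3, 7, 11], [5, 13], [1, 5, 13], [5, 1, 3, 13], [3, 5, 13], [5, 9, 11, 15], [3, 7, 13], [7, 13], [1, 7, 13], [1, 13], [13], [3, 13], [1, 3, 13], [5, 3, 7, 13], [9, 11, 15], [5, 1, 7, 13], [5, 7, 13], [7, 15], [1, 7, 15], [5, 9, 11, 13], [3, 7, 15], [5, 1, 3, 15], [3, 5, 15], [5, 15], [1, 5, 15], [5, 1, 7, 15], [5, 7, 15], [5, 3, 7, 15], [9, 11, 13], [3, 15], [1, 3, 15], [1, 15], [15]]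

/-- Involutions fixing the second subspace. -/
def LT : List (List ℕ) := [[], [16], [16, 48], [48], [16, 48, 80, 112], [48, 80, 112], [80, 112], [16, 80, 112], [16, 80], [80], [48, 80], [16, 48, 80], [48, 112], [16, 48, 112], [16, 112], [112], [5, 37, 133, 165], [48, 144, 176], [144, 176], [16, 144, 176], [16, 48, 208, 240], [48, 208, 240], [208, 240], [16, 208, 240], [16, 112, 208, 240], [112, 208, 240], [16, 80, 144, 176], [80, 144, 176], [16, 112, 144, 176], [112, 144, 176], [16, 80, 208, 240], [80, 208, 240], [16, 80, 144, 208], [80, 144, 208], [16, 112, 176, 240], [112, 176, 240], [16, 80, 176, 240], [80, 176, 240], [16, 112, 144, 208], [112, 144, 208], [144, 208], [16, 144, 208], [16, 48, 144, 208], [48, 144, 208], [176, 240], [16, 176, 240], [16, 48, 176, 240], [48, 176, 240], [16, 112, 144, 240], [112, 144, 240], [16, 80, 176, 208], [80, 176, 208], [16, 112, 176, 208], [112, 176, 208], [16, 80, 144, 240], [80, 144, 240], [16, 48,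 176, 208], [48, 176, 208], [176, 208], [16, 176, 208], [16, 48, 144, 240], [48, 144, 240], [144, 240], [16, 144, 240], [16, 144], [144], [48, 144], [16, 48, 144], [16, 176, 208, 240], [176, 208, 240], [16, 80, 112, 144], [80, 112, 144], [80, 144], [16, 80, 144], [16, 48, 80, 144], [48, 80, 144], [16, 48, 112, 144], [48, 112, 144], [112, 144], [16, 112, 144], [48, 176], [16, 48, 176], [16, 176], [176], [16, 80, 112, 176], [80, 112, 176], [16, 144, 208, 240], [144, 208, 240], [16, 48, 80, 176], [48, 80, 176], [80, 176], [16, 80, 176], [112, 176], [16, 112, 176], [16, 48, 112, 176], [48, 112, 176], [80, 208], [16, 80, 208], [16, 48, 80, 208], [48, 80, 208], [16, 48, 112, 208], [48, 112, 208], [112, 208], [16, 112, 208], [16, 208], [208], [48, 208], [16, 48, 208], [16, 144, 176, 240], [144, 176, 240], [16, 80, 112, 208], [80, 112, 208], [112, 240], [16, 112, 240], [16, 48, 112, 240], [48, 112, 240], [16, 48, 80, 240], [48, 80, 240], [80, 240],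 [16, 80, 240], [16, 80, 112, 240], [80, 112, 240], [16, 144, 176, 208], [144, 176, 208], [48, 240], [16, 48, 240], [16, 240], [240]]

theorem hS : allL 0 LS (fun i a => (16 <<< i) ^^^ a) (fun l => [1, 2, 4, 8] ++ l) = true := by
  decide +kernel

theorem hT : allL 0 LT (fun i a => (1 <<< i) ^^^ (16 * a)) (fun l => l ++ [16, 32, 64, 128]) = true := by
  decide +kernel

end Cfsg.Agent.OreO.T0
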