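import Mathlib
import Cfsg.Agent.Elu.O8a

/-! Commutator tables. -/

set_option autoImplicit false
set_option maxRecDepth 100000

namespace Cfsg.Agent.OreO.T1

/-- Involutions fixing the first subspace. -/
def LS : List (List ℕ) := [[], [2, 3], [2], [3], [171, 170, 174, 175], [6, 7], [3, 6, 7], [2, 6, 7], [2, 6], [3, 6], [6], [2, 3, 6], [3, 7], [2, 7], [2, 3, 7], [7], [109, 100, 101, 108], [10, 11], [3, 10, 11], [2, 10, 11], [7, 6, 10, 11], [14, 15], [3, 14, 15], [2, 14, 15], [7, 2, 14, 15], [7, 3, 14, 15], [7, 14, 15], [6, 10, 11], [7, 2, 10, 11], [7, 3, 10, 11], [7, 10, 11], [6, 14, 15], [23, 19, 27, 31], [7, 2, 11, 15], [6, 10, 14], [7, 11, 15], [147, 151, 154, 158], [7, 2, 10, 14], [6, 11, 15], [7, 10, 14], [10, 14], [7, 6, 11, 15], [2, 10, 14], [3, 10, 14], [11, 15], [7, 6, 10, 14], [2, 11, 15], [3, 11, 15], [7, 2, 10, 15], [7, 3, 10, 15], [7, 10, 15], [6, 11, 14], [220, 208, 213, 217], [7, 3, 11, 14], [7, 11, 14], [6, 10, 15], [7, 6, 10, 15], [11, 14],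 [3, 11, 14], [2, 11, 14], [7, 6, 11, 14], [10, 15], [3, 10, 15], [2, 10, 15], [2, 10], [3, 10], [10], [2, 3, 10], [7, 3, 6, 10], [7, 2, 6, 10], [11, 14, 15], [6, 7, 10], [6, 10], [7, 11, 14, 15], [2, 6, 10], [3, 6, 10], [7, 2, 3, 10], [7, 10], [3, 7, 10], [2, 7, 10], [3, 11], [2, 11], [2, 3, 11], [11], [7, 2, 6, 11], [7, 3, 6, 11], [6, 7, 11], [10, 14, 15], [7, 10, 14, 15], [6, 11], [3, 6, 11], [2, 6, 11], [7, 11], [7, 2, 3, 11], [2, 7, 11], [3, 7, 11], [6, 14], [7, 10, 11, 15], [2, 6, 14], [3, 6, 14], [7, 2, 3, 14], [7, 14], [3, 7, 14], [2, 7, 14], [2, 14], [3, 14], [14], [2, 3, 14], [7, 3, 6, 14], [7, 2, 6, 14], [10, 11, 15], [6, 7, 14], [7, 15], [7, 2, 3, 15], [2, 7, 15], [3, 7, 15], [7, 10, 11, 14], [6, 15], [3, 6, 15], [2, 6, 15], [7, 2, 6, 15], [7, 3, 6, 15], [6, 7, 15], [10, 11, 14], [3, 15], [2, 15], [2, 3, 15], [15]]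

/-- Involutions fixing the second subspace. -/
def LT : List (List ℕ) := [[], [16], [16, 48], [48], [185, 153, 217, 249], [48, 80, 112], [80, 112], [16, 80, 112], [16, 80], [80], [48, 80], [16, 48, 80], [48, 112], [16, 48, 112], [16, 112], [112], [180, 20, 52, 148], [48, 144, 176], [144, 176], [16, 144, 176], [220, 28, 60, 252], [48, 208, 240], [208, 240], [16, 208, 240], [176, 48, 80, 144], [112, 208, 240], [176, 16, 80, 144], [80, 144, 176], [176, 16, 112, 144], [112, 144, 176], [176, 48, 112, 144], [80, 208, 240], [147, 19, 83, 211], [80, 144, 208], [176, 16, 112, 240], [112, 176, 240], [171, 11, 75, 235], [80, 176, 240], [176, 48, 80, 240], [112, 144, 208], [144, 208], [16, 144, 208], [176, 80, 112, 240], [48, 144, 208], [176, 240], [16, 176, 240], [176, 16, 48, 240], [48, 176, 240], [23, 119, 151, 247], [112, 144, 240], [176, 16, 80, 208], [80, 176, 208], [254, 62, 94, 158], [112, 176, 208], [176, 48, 112, 208], [80, 144, 240], [176, 16, 48, 208], [48,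 176, 208], [176, 208], [16, 176, 208], [176, 80, 112, 208], [48, 144, 240], [144, 240], [16, 144, 240], [16, 144], [144], [48, 144], [16, 48, 144], [176, 16, 208, 240], [176, 208, 240], [176, 48, 208, 240], [80, 112, 144], [80, 144], [16, 80, 144], [176, 112, 208, 240], [48, 80, 144], [176, 80, 208, 240], [48, 112, 144], [112, 144], [16, 112, 144], [48, 176], [16, 48, 176], [16, 176], [176], [176, 16, 80, 112], [80, 112, 176], [176, 48, 80, 112], [144, 208, 240], [176, 16, 48, 80], [48, 80, 176], [80, 176], [16, 80, 176], [112, 176], [16, 112, 176], [176, 16, 48, 112], [48, 112, 176], [80, 208], [16, 80, 208], [176, 112, 144, 240], [48, 80, 208], [176, 80, 144, 240], [48, 112, 208], [112, 208], [16, 112, 208], [16, 208], [208], [48, 208], [16, 48, 208], [176, 16, 144, 240], [144, 176, 240], [176, 48, 144, 240], [80, 112, 208], [112, 240], [16, 112, 240], [176, 80, 144, 208], [48, 112, 240], [176, 112, 144, 208], [48, 80, 240], [80, 240], [16, 80, 240], [176,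 48, 144, 208], [80, 112, 240], [176, 16, 144, 208], [144, 176, 208], [48, 240], [16, 48, 240], [16, 240], [240]]

theorem hS : allL 1 LS (fun i a => (16 <<< i) ^^^ a) (fun l => [1, 2, 4, 8] ++ l) = true := by
  decide +kernel

theorem hT : allL 1 LT (fun i a => (1 <<< i) ^^^ (16 * a)) (fun l => l ++ [16, 32, 64, 128]) = true := by
  decide +kernel

end Cfsg.Agent.OreO.T1
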