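import Mathlib
import Cfsg.Agent.Elu.Cmt6

/-! Symplectic isometries and pairs of complementary totally isotropic subspaces. -/

set_option autoImplicit false
set_option backward.isDefEq.respectTransparency false

namespace Cfsg.Agent.Ore

open Polynomial Module Cfsg.Agent.Com

universe u

variable {F : Type u} [Field F] {V : Type u} [AddCommGroup V] [Module F V]
  {ω : LinearMap.BilinForm F V}

/-- A nondegenerate alternating form. -/
structure Sy (ω : LinearMap.BilinForm F V) : Prop where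
  alt : ∀ x, ω x x = 0
  nd : ∀ x, (∀ y, ω x y = 0) → x = 0

/-- Isometries. -/
def Iso (ω : LinearMap.BilinForm F V) (g : End F V) : Prop := ∀ x y, ω (g x) (g y) = ω x y

/-- Totally isotropic subspaces. -/
def Tot (ω : LinearMap.BilinForm F V) (U : Submodule F V) : Prop := ∀ x ∈ U, ∀ y ∈ U, ω x y = 0

/-- Complementary totally isotropic subspaces. -/
structure Pr (ω : LinearMap.BilinForm F V) (U U' : Submodule F V) : Prop where
  l : Tot ω U
  r : Tot ω U'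
  top : ∀ v, ∃ x ∈ U, ∃ y ∈ U', x + y = v

/-- The eigenvalues of `y` and `y⁻¹` are disjoint when `P` kills `y`. -/
def Fp (P : F[X]) : Prop := ∀ (K : Type u) [CommRing K] [Algebra F K] (y z : K), y * z = 1 →
  IsCoprime (aeval y P) (aeval z P)

theorem Sy.skew (h : Sy ω) (x y : V) : ω x y = -ω y x := by
  have := h.alt (x + y)
  simp only [map_add, LinearMap.add_apply, h.alt] at this
  linear_combination this

theorem Sy.sw (h : Sy ω) {x y : V} (e : ω x y = 0) : ω y x = 0 := by rw [h.skew, e, neg_zero]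

theorem Iso.mul {g k : End F V} (h : Iso ω g) (h' : Iso ω k) : Iso ω (g * k) :=
  fun x y => (h _ _).trans (h' x y)

theorem iso_one : Iso ω 1 := fun _ _ => rfl

theorem Iso.adj {g g' : End F V} (h : Iso ω g) (e : g * g' = 1) (x y : V) :
    ω (g x) y = ω x (g' y) := by
  rw [← h x, ← End.mul_apply g g', e, End.one_apply]

theorem Iso.of_inv {g g' : End F V} (h : Iso ω g) (e : g * g' = 1) : Iso ω g' := fun x y => by
  rw [← h, ← End.mul_apply g g', ← End.mul_apply g g', e]; rfl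

theorem Iso.adj_aeval {g g' : End F V} (h : Iso ω g) (e : g * g' = 1) (p : F[X]) (x y : V) :
    ω (aeval g p x) y = ω x (aeval g' p y) := by
  induction p using Polynomial.induction_on generalizing x y with
  | C a => simp
  | add p q hp hq => simp [hp, hq]
  | monomial n a ih =>
    rw [pow_succ, ← mul_assoc, aeval_mul_apply, ih, aeval_X, h.adj e, mul_comm _ X,
      aeval_mul_apply g' X, aeval_X]

theorem Pr.symm {U U' : Submodule F V} (h : Pr ω U U') : Pr ω U' U :=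
  ⟨h.r, h.l, fun v => by
    obtain ⟨x, hx, y, hy, e⟩ := h.top v
    exact ⟨y, hy, x, hx, (add_comm _ _).trans e⟩⟩

theorem Pr.zero (hs : Sy ω) {U U' : Submodule F V} (h : Pr ω U U') {y : V} (hy : y ∈ U')
    (e : ∀ x ∈ U, ω y x = 0) : y = 0 := hs.nd y (fun v => by
  obtain ⟨a, ha, b, hb, rfl⟩ := h.top v
  rw [map_add, e a ha, h.r y hy b hb, add_zero])

theorem Pr.lag (hs : Sy ω) {U U' : Submodule F V} (h : Pr ω U U') {y : V}
    (e : ∀ x ∈ U, ω y x = 0) : y ∈ U := by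
  obtain ⟨a, ha, b, hb, rfl⟩ := h.top y
  rw [h.zero hs hb (fun x hx => by
    have := e x hx
    rwa [map_add, LinearMap.add_apply, h.l a ha x hx, zero_add] at this), add_zero]
  exact ha

theorem Pr.compl (hs : Sy ω) {U U' : Submodule F V} (h : Pr ω U U') : IsCompl U U' :=
  ⟨Submodule.disjoint_def.mpr (fun x h1 h2 => h.zero hs h2 (fun y hy => h.l x h1 y hy)),
    codisjoint_iff.mpr (eq_top_iff.mpr (fun v _ => Submodule.mem_sup.mpr (h.top v)))⟩

theorem Fp.en {P : F[X]} (h : Fp P) {y z : End F V} (e : y * z = 1) (e' : z * y = 1) :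
    ∃ a b : End F V, aeval y P * a + aeval z P * b = 1 := by
  letI := Algebra.adjoinCommRingOfComm F (s := ({y, z} : Set (End F V))) (by
    rintro a (rfl | rfl) b (rfl | rfl) <;> simp [e, e'])
  obtain ⟨a, b, hab⟩ := h (Algebra.adjoin F ({y, z} : Set (End F V)))
    ⟨y, Algebra.subset_adjoin (by simp)⟩ ⟨z, Algebra.subset_adjoin (by simp)⟩ (Subtype.ext e)
  rw [mul_comm a, mul_comm b] at hab
  have := congrArg (Subalgebra.val _) hab
  rw [map_add, map_mul, map_mul, ← aeval_algHom_apply, ← aeval_algHom_apply, map_one] at this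
  exact ⟨a, b, this⟩

theorem aeval_comm {y z : End F V} (h : y * z = z * y) (p : F[X]) (x : V) :
    z (aeval y p x) = aeval y p (z x) :=
  aeval_int z (fun v => (congrArg (fun f : End F V => f v) h).symm) p x

theorem Pr.inv_compl (hs : Sy ω) {U U' : Submodule F V} (h : Pr ω U U') {P : F[X]} (hP : Fp P)
    {y z : End F V} (hy : Iso ω y) (e : y * z = 1) (e' : z * y = 1)
    (h0 : ∀ x ∈ U, aeval y P x = 0) :
    ∃ U'', Pr ω U U'' ∧ (∀ x ∈ U'', y x ∈ U'') ∧ ∀ x ∈ U'', z x ∈ U'' := by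
  have h1 : ∀ v, aeval z P v ∈ U := fun v => h.lag hs (fun x hx => hs.sw (by
    rw [← hy.adj_aeval e, h0 x hx]; simp))
  obtain ⟨a, b, hab⟩ := hP.en e e'
  refine ⟨LinearMap.range (aeval y P), ⟨h.l, ?_, fun v => ⟨_, h1 (b v), _, ⟨a v, rfl⟩, ?_⟩⟩, ?_, ?_⟩
  · rintro _ ⟨v, rfl⟩ _ ⟨w, rfl⟩
    rw [hy.adj_aeval e, ← aeval_comm (y := z) (z := aeval y P) (LinearMap.ext (fun x =>
      aeval_comm (e.trans e'.symm) P x)), h0 _ (h1 w), map_zero]
  · rw [add_comm]; exact congrArg (fun f : End F V => f v) hab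
  · rintro _ ⟨v, rfl⟩
    exact ⟨y v, (aeval_comm rfl P v).symm⟩
  · rintro _ ⟨v, rfl⟩
    exact ⟨z v, (aeval_comm (e.trans e'.symm) P v).symm⟩

variable [FiniteDimensional F V]

theorem Sy.rep (hs : Sy ω) (l : Dual F V) : ∃ y, ∀ x, ω y x = l x := by
  have hn : ω.Nondegenerate := ⟨hs.nd, fun y h => hs.nd y (fun x => hs.sw (h x))⟩
  exact ⟨(ω.toDual hn).symm l, fun x => by
    rw [← LinearMap.BilinForm.toDual_def hn, LinearEquiv.apply_symm_apply]⟩

theorem Iso.inv (hs : Sy ω) {g : End F V} (h : Iso ω g) : ∃ g', g * g' = 1 ∧ g' * g = 1 := by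
  have : IsUnit g := (LinearMap.isUnit_iff_ker_eq_bot g).mpr (eq_bot_iff.mpr (fun x hx => hs.nd x
    (fun y => by rw [← h, LinearMap.mem_ker.mp hx]; simp)))
  obtain ⟨u, rfl⟩ := this
  exact ⟨_, u.mul_inv, u.inv_mul⟩

theorem Pr.theta (hs : Sy ω) {U U' : Submodule F V} (h : Pr ω U U') :
    ∃ θ : U' ≃ₗ[F] Dual F U, ∀ (y : U') (x : U), θ y x = ω y x := by
  refine ⟨LinearEquiv.ofBijective (ω.domRestrict₁₂ U' U) ⟨?_, fun l => ?_⟩, fun _ _ => rfl⟩
  · rw [injective_iff_map_eq_zero]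
    exact fun y hy => Subtype.ext (h.zero hs y.2 (fun x hx => LinearMap.congr_fun hy ⟨x, hx⟩))
  · obtain ⟨l', hl⟩ := LinearMap.exists_extend l
    obtain ⟨y, hy⟩ := hs.rep l'
    obtain ⟨a, ha, b, hb, rfl⟩ := h.top y
    refine ⟨⟨b, hb⟩, LinearMap.ext (fun x => ?_)⟩
    have := hy x
    rw [map_add, LinearMap.add_apply, h.l a ha x x.2, zero_add] at this
    rw [← hl]; exact this

theorem Pr.ext (hs : Sy ω) {U1 U1' U2 U2' : Submodule F V} (h1 : Pr ω U1 U1') (h2 : Pr ω U2 U2')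
    (φ : U1 ≃ₗ[F] U2) :
    ∃ c : End F V, Iso ω c ∧ (∀ x : U1, c x = φ x) ∧ ∀ y ∈ U1', c y ∈ U2' := by
  obtain ⟨θ1, t1⟩ := h1.theta hs
  obtain ⟨θ2, t2⟩ := h2.theta hs
  let ψ : U1' →ₗ[F] U2' := θ2.symm.toLinearMap ∘ₗ φ.symm.toLinearMap.dualMap ∘ₗ θ1.toLinearMap
  have hψ : ∀ (y : U1') (x : U1), ω (ψ y) (φ x) = ω y x := fun y x => by
    rw [← t2, ← t1]; simp [ψ]
  let c := LinearMap.ofIsCompl (h1.compl hs) (U2.subtype ∘ₗ φ.toLinearMap) (U2'.subtype ∘ₗ ψ)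
  have c1 : ∀ x : U1, c x = φ x := fun x => LinearMap.ofIsCompl_apply_left _ x
  have c2 : ∀ x : U1', c x = ψ x := fun x => LinearMap.ofIsCompl_apply_right _ x
  refine ⟨c, fun v w => ?_, c1, fun y hy => (c2 ⟨y, hy⟩) ▸ (ψ ⟨y, hy⟩).2⟩
  obtain ⟨a, ha, b, hb, rfl⟩ := h1.top v
  obtain ⟨a', ha', b', hb', rfl⟩ := h1.top w
  simp only [map_add, LinearMap.add_apply]
  rw [c1 ⟨a, ha⟩, c1 ⟨a', ha'⟩, c2 ⟨b, hb⟩, c2 ⟨b', hb'⟩, hψ, hs.skew (φ ⟨a, ha⟩ : V) (ψ _), hψ,
    h2.l _ (φ _).2 _ (φ _).2, h2.r _ (ψ _).2 _ (ψ _).2, h1.l a ha a' ha', h1.r b hb b' hb',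
    hs.skew a b']

/-- `y` stabilises a pair of complementary isotropic subspaces and acts as `s` on the first. -/
def Cl (ω : LinearMap.BilinForm F V) {T : Type u} [AddCommGroup T] [Module F T] (s : End F T)
    (y : End F V) : Prop := Iso ω y ∧ ∃ (U U' : Submodule F V) (h : ∀ x ∈ U, y x ∈ U),
  Pr ω U U' ∧ (∀ x ∈ U', y x ∈ U') ∧ Sim (y.restrict h) s

theorem Cl.conj (hs : Sy ω) {T : Type u} [AddCommGroup T] [Module F T] {s : End F T}
    {y1 y2 : End F V} (h1 : Cl ω s y1) (h2 : Cl ω s y2) : ∃ c, Iso ω c ∧ c * y1 = y2 * c := by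
  obtain ⟨i1, U1, U1', a1, p1, b1, s1⟩ := h1
  obtain ⟨i2, U2, U2', a2, p2, b2, s2⟩ := h2
  obtain ⟨φ, hφ⟩ := s1.trans s2.symm
  obtain ⟨c, c1, c2, c3⟩ := p1.ext hs p2 φ
  have k1 : ∀ x : U1, c (y1 x) = y2 (c x) := fun x => by
    rw [c2 x]; exact (c2 ⟨y1 x, a1 x x.2⟩).trans (congrArg Subtype.val (hφ x))
  refine ⟨c, c1, LinearMap.ext (fun v => ?_)⟩
  obtain ⟨a, ha, b, hb, rfl⟩ := p1.top v
  simp only [End.mul_apply, map_add]
  rw [k1 ⟨a, ha⟩, add_right_inj, ← sub_eq_zero]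
  refine p2.zero hs (U2'.sub_mem (c3 _ (b1 b hb)) (b2 _ (c3 b hb))) (fun x hx => ?_)
  obtain ⟨x', hx'⟩ := (LinearMap.injective_iff_surjective (f := y1.restrict a1)).mp (by
    obtain ⟨z, -, hz⟩ := i1.inv hs
    intro a b hab
    apply Subtype.ext
    have := congrArg (fun w : U1 => z w) hab
    simpa [← End.mul_apply, hz] using this) (φ.symm ⟨x, hx⟩)
  have e : x = c (y1 x') := by
    rw [show y1 x' = (φ.symm ⟨x, hx⟩ : V) from congrArg Subtype.val hx', c2]; simp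
  rw [map_sub, LinearMap.sub_apply, e, c1, i1, k1, i2, c1, sub_self]

theorem siegel (hs : Sy ω) {g : End F V} (hg : Iso ω g) {U U' : Submodule F V} (h : Pr ω U U')
    (A s : End F U) (hA : ∀ x : U, g x - A x ∈ U') {P : F[X]} (hP : Fp P) (h0 : P.coeff 0 ≠ 0)
    (h1 : aeval s P = 0) (h2 : Sim (A * s) s) :
    ∃ x, Cl ω s x ∧ Cl ω s (g * x) := by
  obtain ⟨g', g1, g2⟩ := hg.inv hs
  have hg' := hg.of_inv g1
  have si : Function.Injective s := by
    rw [injective_iff_map_eq_zero]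
    intro x hx
    have := congrArg (fun f : End F U => f x) h1
    rw [← divX_mul_X_add P] at this
    simpa [hx, h0] using this
  have ss := LinearMap.injective_iff_surjective.mp si
  obtain ⟨e, he⟩ := h2
  have h3 : aeval (A * s) P = 0 := LinearMap.ext (fun x => e.injective (by
    have := aeval_int (e : U →ₗ[F] U) he P x
    rw [h1] at this
    simpa using this))
  have as : ∀ x, ∃ y, (A * s) y = x := fun x => by
    obtain ⟨y, hy⟩ := ss (e x)
    exact ⟨e.symm y, e.injective (by rw [he, e.apply_symm_apply, hy])⟩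
  have p2 : Pr ω U (U'.map g') := by
    refine ⟨h.l, ?_, fun v => ?_⟩
    · rintro _ ⟨x, hx, rfl⟩ _ ⟨y, hy, rfl⟩
      rw [hg', h.r x hx y hy]
    · obtain ⟨a, ha, b, hb, e⟩ := h.top (g v)
      obtain ⟨y, hy⟩ := as ⟨a, ha⟩
      refine ⟨s y, (s y).2, _, ⟨b - (g (s y) - A (s y)), U'.sub_mem hb (hA _), rfl⟩, ?_⟩
      rw [show (A (s y) : V) = a from congrArg Subtype.val hy,
        show b - (g (s y) - a) = g v - g (s y) by rw [← e]; abel, ← map_sub, ← End.mul_apply, g2]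
      simp
  obtain ⟨x, x1, x2, x3⟩ := h.ext hs p2 (LinearEquiv.ofBijective s ⟨si, ss⟩)
  have x4 : ∀ v ∈ U, x v ∈ U := fun v hv => (x2 ⟨v, hv⟩) ▸ (s ⟨v, hv⟩).2
  have x5 : x.restrict x4 = s := LinearMap.ext (fun v => Subtype.ext (x2 v))
  obtain ⟨x', e1, e2⟩ := x1.inv hs
  refine ⟨x, ⟨x1, ?_⟩, hg.mul x1, ?_⟩
  · obtain ⟨U'', q1, q2, -⟩ := h.inv_compl hs hP x1 e1 e2 (fun v hv => by
      have := aeval_int (f := s) (g := x) U.subtype (fun v => (x2 v).symm) P ⟨v, hv⟩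
      rw [h1] at this
      simpa using this.symm)
    exact ⟨U, U'', x4, q1, q2, x5 ▸ Sim.refl _⟩
  have y1 : ∀ v ∈ U', (g * x) v ∈ U' := fun v hv => by
    obtain ⟨w, hw, e⟩ := x3 v hv
    rw [End.mul_apply, ← e, ← End.mul_apply, g1]; exact hw
  obtain ⟨π, π1, π2⟩ : ∃ π : V →ₗ[F] U, (∀ v : U, π v = v) ∧ ∀ v, π v = 0 ↔ v ∈ U' :=
    ⟨U.projectionOnto U' (h.compl hs), Submodule.projectionOnto_apply_left _,
      fun _ => Submodule.projectionOnto_apply_eq_zero_iff _⟩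
  have hπ : ∀ v, π ((g * x) v) = (A * s) (π v) := fun v => by
    obtain ⟨a, ha, b, hb, rfl⟩ := h.top v
    rw [map_add, map_add, map_add π, (π2 _).mpr (y1 b hb), (π2 _).mpr hb, π1 ⟨a, ha⟩, add_zero,
      add_zero, End.mul_apply, x2 ⟨a, ha⟩, ← sub_add_cancel (g _) (A (s ⟨a, ha⟩) : V), map_add, π1]
    erw [(π2 _).mpr (hA _)]
    simp
  have k1 : (g * x) * (x' * g') = 1 := by rw [mul_assoc, ← mul_assoc x, e1, one_mul, g1]
  have k2 : (x' * g') * (g * x) = 1 := by rw [mul_assoc, ← mul_assoc g', g2, one_mul, e2]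
  obtain ⟨U'', q1, -, q2⟩ := h.symm.inv_compl hs hP ((hg.mul x1).of_inv k1) k2 k1 (fun v hv =>
    hs.nd _ (fun w => hs.sw (by
      rw [← (hg.mul x1).adj_aeval k1]
      refine h.r _ ?_ v hv
      rw [← π2]
      have := aeval_int π hπ P w
      rwa [h3] at this)))
  refine ⟨U'', U', q2, q1.symm, y1, Sim.trans ?_ ⟨e, he⟩⟩
  refine ⟨LinearEquiv.ofBijective (π ∘ₗ U''.subtype) ⟨?_, fun v => ?_⟩, fun v => hπ v⟩
  · rw [injective_iff_map_eq_zero]
    intro v hv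
    exact Subtype.ext (q1.zero hs v.2 (fun w hw => h.r _ ((π2 _).mp hv) w hw))
  · obtain ⟨a, ha, b, hb, e⟩ := q1.top v
    refine ⟨⟨b, hb⟩, ?_⟩
    have := congrArg π e
    rwa [map_add, (π2 _).mpr ha, zero_add, π1] at this

end Cfsg.Agent.Ore
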