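import Mathlib
import Cfsg.Agent.Elu.Ore1

/-! Compressions of symplectic isometries to maximal totally isotropic subspaces. -/

set_option autoImplicit false
set_option backward.isDefEq.respectTransparency false

namespace Cfsg.Agent.Ore

open Polynomial Module Cfsg.Agent.Com Matrix

universe u

variable {F : Type u} [Field F] {V : Type u} [AddCommGroup V] [Module F V]
  {ω : LinearMap.BilinForm F V} [FiniteDimensional F V]
variable {T : Type u} [AddCommGroup T] [Module F T] [FiniteDimensional F T]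

theorem Sy.sep (hs : Sy ω) {S : Submodule F V} {z : V} (hz : z ∉ S) :
    ∃ y, (∀ x ∈ S, ω y x = 0) ∧ ω y z ≠ 0 := by
  obtain ⟨l, h1, h2⟩ := S.exists_dual_map_eq_bot_of_notMem hz inferInstance
  obtain ⟨y, hy⟩ := hs.rep l
  refine ⟨y, fun x hx => ?_, hy z ▸ h1⟩
  rw [hy, ← Submodule.mem_bot F, ← h2]
  exact ⟨x, hx, rfl⟩

theorem Sy.ext_compl (hs : Sy ω) {U W : Submodule F V} (hU : Tot ω U)
    (hL : ∀ y, (∀ x ∈ U, ω y x = 0) → y ∈ U) (hW : Tot ω W) (hd : Disjoint W U) :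
    ∃ U', W ≤ U' ∧ Pr ω U U' := by
  obtain ⟨U', ⟨h1, h2, h3⟩, hm⟩ := (wellFounded_gt (α := Submodule F V)).has_min
    {X | W ≤ X ∧ Tot ω X ∧ Disjoint X U} ⟨W, le_rfl, hW, hd⟩
  refine ⟨U', h1, hU, h2, fun v => Submodule.mem_sup.mp ?_⟩
  by_contra hv
  obtain ⟨z, z1, z2⟩ := hs.sep hv
  have z3 : z ∈ U := hL z (fun x hx => z1 x (Submodule.mem_sup_left hx))
  have z4 : z ∉ U' := fun h => z2 (by rw [Submodule.disjoint_def.mp h3 z h z3]; simp)
  obtain ⟨y, y1, y2⟩ := hs.sep z4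
  have y3 : y ∉ U ⊔ U' := fun h => y2 (hs.sw (z1 y h))
  refine hm (U' ⊔ Submodule.span F {y}) ⟨h1.trans le_sup_left, ?_, ?_⟩ ?_
  · intro a0 ha0 b0 hb0
    obtain ⟨a, ha, _, ha', rfl⟩ := Submodule.mem_sup.mp ha0
    obtain ⟨b, hb, _, hb', rfl⟩ := Submodule.mem_sup.mp hb0
    obtain ⟨c, rfl⟩ := Submodule.mem_span_singleton.mp ha'
    obtain ⟨d, rfl⟩ := Submodule.mem_span_singleton.mp hb'
    simp [h2 a ha b hb, y1 b hb, hs.sw (y1 a ha), hs.alt]
  · rw [Submodule.disjoint_def]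
    intro a0 ha0 h
    obtain ⟨a, ha, _, ha', rfl⟩ := Submodule.mem_sup.mp ha0
    obtain ⟨c, rfl⟩ := Submodule.mem_span_singleton.mp ha'
    by_cases hc : c = 0
    · rw [hc, zero_smul, add_zero] at h ⊢
      exact Submodule.disjoint_def.mp h3 a ha h
    · refine absurd ((Submodule.smul_mem_iff _ hc).mp ?_) y3
      rw [show c • y = (a + c • y) - a by abel]
      exact Submodule.sub_mem _ (Submodule.mem_sup_left h) (Submodule.mem_sup_right ha)
  · exact lt_of_le_of_ne le_sup_left (fun e => y3 (Submodule.mem_sup_right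
      (e ▸ Submodule.mem_sup_right (Submodule.mem_span_singleton_self y))))

theorem Sy.lag_of_dim (hs : Sy ω) {U : Submodule F V} (hU : Tot ω U)
    (hd : finrank F V ≤ 2 * finrank F U) (y : V) (hy : ∀ x ∈ U, ω y x = 0) : y ∈ U := by
  have hn : ω.Nondegenerate := ⟨hs.nd, fun y h => hs.nd y (fun x => hs.sw (h x))⟩
  have : U = ω.orthogonal U := Submodule.eq_of_le_of_finrank_le (fun x hx y hy => hU y hy x hx)
    (by rw [LinearMap.BilinForm.finrank_orthogonal hn]; omega)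
  rw [this]
  exact fun x hx => hs.sw (hy x hx)

omit [FiniteDimensional F V] [FiniteDimensional F T] in
theorem Cl.sim {T' : Type u} [AddCommGroup T'] [Module F T'] {s : End F T} {s' : End F T'}
    {y : End F V} (h : Cl ω s y) (e : Sim s s') : Cl ω s' y := by
  obtain ⟨h1, U, U', h2, h3, h4, h5⟩ := h
  exact ⟨h1, U, U', h2, h3, h4, h5.trans e⟩

omit [FiniteDimensional F V] [FiniteDimensional F T] in
theorem sim_aeval {f : End F V} {g : End F T} (h : Sim f g) {P : F[X]} (h0 : aeval f P = 0) :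
    aeval g P = 0 := by
  obtain ⟨e, he⟩ := h
  refine LinearMap.ext (fun x => ?_)
  obtain ⟨x, rfl⟩ := e.surjective x
  have := aeval_int (e : V →ₗ[F] T) he P x
  rw [h0] at this
  simpa using this.symm

theorem siegel' (hs : Sy ω) {g : End F V} (hg : Iso ω g) (ι : T →ₗ[F] V)
    (hi : Function.Injective ι) (hU : ∀ x y, ω (ι x) (ι y) = 0)
    (hL : ∀ y, (∀ x, ω y (ι x) = 0) → ∃ x, ι x = y) (A s : End F T)
    (hB : ∀ x y, ω (g (ι x)) (ι (A y)) + ω (ι (A x)) (g (ι y)) = 0)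
    (hR : ∀ x y, g (ι x) = ι y → y = A x) {P : F[X]} (hP : Fp P) (h0 : P.coeff 0 ≠ 0)
    (h1 : aeval s P = 0) (h2 : Sim (A * s) s) : ∃ x, Cl ω s x ∧ Cl ω s (g * x) := by
  obtain ⟨U', u1, u2⟩ := hs.ext_compl (U := LinearMap.range ι)
    (W := LinearMap.range (g ∘ₗ ι - ι ∘ₗ A)) (by
      rintro _ ⟨x, rfl⟩ _ ⟨y, rfl⟩; exact hU x y) (fun y hy => hL y (fun x => hy _ ⟨x, rfl⟩)) (by
      rintro _ ⟨x, rfl⟩ _ ⟨y, rfl⟩
      simp only [LinearMap.sub_apply, LinearMap.comp_apply, map_sub, hg _ _, hU]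
      linear_combination -hB x y) (by
      rw [Submodule.disjoint_def]
      rintro _ ⟨x, rfl⟩ ⟨y, hy⟩
      simp only [LinearMap.sub_apply, LinearMap.comp_apply] at hy ⊢
      have := hR x (y + A x) (by rw [map_add, hy]; abel)
      rw [← hy, add_eq_right.mp this, map_zero])
  let e := LinearEquiv.ofInjective ι hi
  have k : Sim s (e.conj s) := ⟨e, fun x => by simp⟩
  obtain ⟨x, x1, x2⟩ := siegel hs hg u2 (e.conj A) (e.conj s) (fun x => by
    obtain ⟨x, rfl⟩ := e.surjective x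
    refine u1 ⟨x, ?_⟩
    simp [e]) hP h0 (sim_aeval k h1) ((Sim.trans ⟨e.symm, fun x => by simp⟩ h2).trans k)
  exact ⟨x, x1.sim k.symm, x2.sim k.symm⟩

section
variable {l : Type} [Fintype l] [DecidableEq l]

/-- The standard symplectic form. -/
noncomputable abbrev om (l : Type) [Fintype l] [DecidableEq l] (F : Type u) [Field F] :
    LinearMap.BilinForm F (l ⊕ l → F) := Matrix.toBilin' (J l F)

theorem om_apply (x y : l ⊕ l → F) : om l F x y =
    ∑ i, (x (Sum.inr i) * y (Sum.inl i) - x (Sum.inl i) * y (Sum.inr i)) := by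
  simp [Matrix.toBilin'_apply', J, Matrix.fromBlocks_mulVec, dotProduct, Matrix.neg_mulVec,
    Finset.sum_sub_distrib]
  ring

theorem sy_om : Sy (om l F) := by
  refine ⟨fun x => by simp [om_apply, mul_comm], fun x h => funext (fun i => ?_)⟩
  rcases i with i | i
  · simpa [om_apply, Pi.single_apply] using h (Pi.single (Sum.inr i) 1)
  · simpa [om_apply, Pi.single_apply] using h (Pi.single (Sum.inl i) 1)

theorem iso_iff (M : Matrix (l ⊕ l) (l ⊕ l) F) :
    Iso (om l F) (toLin' M) ↔ M ∈ symplecticGroup l F := by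
  rw [SymplecticGroup.mem_iff', ← Matrix.toBilin'.injective.eq_iff, ← Matrix.toBilin'_comp]
  exact ⟨fun h => LinearMap.ext₂ h, fun h x y => LinearMap.congr_fun₂ h x y⟩

theorem exists_sp {c : End F (l ⊕ l → F)} (h : Iso (om l F) c) :
    ∃ C : symplecticGroup l F, toLin' (C : Matrix (l ⊕ l) (l ⊕ l) F) = c :=
  ⟨⟨LinearMap.toMatrix' c, (iso_iff _).mp (by rwa [toLin'_toMatrix'])⟩, toLin'_toMatrix' c⟩

theorem sp_ext {A B : symplecticGroup l F} (h : toLin' (A : Matrix (l ⊕ l) (l ⊕ l) F) =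
    toLin' (B : Matrix (l ⊕ l) (l ⊕ l) F)) : A = B := Subtype.ext (toLin'.injective h)

theorem sp_mul (A B : symplecticGroup l F) : toLin' ((A * B : symplecticGroup l F) :
    Matrix (l ⊕ l) (l ⊕ l) F) = (toLin' (A : Matrix (l ⊕ l) (l ⊕ l) F) : End F _) *
      toLin' (B : Matrix (l ⊕ l) (l ⊕ l) F) := toLin'_mul _ _

end

end Cfsg.Agent.Ore
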