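import Mathlib
import Cfsg.Agent.Elu.Ore2

/-! A semisimple class of the four dimensional symplectic group whose square covers the group. -/

set_option autoImplicit false
set_option backward.isDefEq.respectTransparency false

namespace Cfsg.Agent.Ore

open Polynomial Module Cfsg.Agent.Com Matrix

universe u

variable {F : Type u} [Field F] {V : Type u} [AddCommGroup V] [Module F V]
  {ω : LinearMap.BilinForm F V} [FiniteDimensional F V]

theorem cop_of {K : Type u} [CommRing K] [Algebra F K] {A B : K} (a b : K) {r : F} (hr : r ≠ 0)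
    (h : a * A + b * B = algebraMap F K r) : IsCoprime A B :=
  ⟨algebraMap F K r⁻¹ * a, algebraMap F K r⁻¹ * b, by
    rw [mul_assoc, mul_assoc, ← mul_add, h, ← map_mul, inv_mul_cancel₀ hr, map_one]⟩

theorem fp_qd {σ δ : F} (h : ∀ x : F, x ^ 2 - σ * x + δ ≠ 0) (h1 : δ ≠ 1) : Fp (qd σ δ) := by
  intro K _ _ y z e
  refine cop_of ((algebraMap F K δ - 1) * algebraMap F K σ ^ 2 + algebraMap F K δ *
    (algebraMap F K σ * y + (1 + algebraMap F K δ) - algebraMap F K σ ^ 2))
    (-y ^ 2 * (algebraMap F K σ * y + (1 + algebraMap F K δ) - algebraMap F K σ ^ 2))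
    (r := (δ - 1) * ((1 ^ 2 - σ * 1 + δ) * ((-1) ^ 2 - σ * (-1) + δ)))
    (mul_ne_zero (sub_ne_zero.mpr h1) (mul_ne_zero (h 1) (h (-1)))) ?_
  simp only [qd, map_add, map_sub, map_mul, map_pow, aeval_X, aeval_C, map_one, map_neg]
  linear_combination -(algebraMap F K σ * y + (1 + algebraMap F K δ) - algebraMap F K σ ^ 2) *
    (y * z + 1 - algebraMap F K σ * y) * e

theorem qd_coeff0 (σ δ : F) : (qd σ δ).coeff 0 = δ := by simp [qd]

theorem cy_of_irr {f : End F V} {p : F[X]} (hp : p.Monic) (hi : Irreducible p)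
    (hd : p.natDegree = finrank F V) (h : aeval f p = 0) : Cy f p := by
  refine cy_of_dvd hp hd (fun g hg => ?_)
  by_contra hn
  obtain ⟨a, b, e⟩ := hi.coprime_iff_not_dvd.mpr hn
  have k := congrArg (aeval f) e
  rw [map_add, map_mul, map_mul, h, hg, mul_zero, mul_zero, add_zero, map_one] at k
  haveI : Nontrivial V := Module.nontrivial_of_finrank_pos (R := F) (hd ▸ hi.natDegree_pos)
  exact zero_ne_one k

theorem Cl.inv (hs : Sy ω) {s : End F (F × F)} {p : F[X]} (hc : Cy s p) (hi : Irreducible p)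
    {y z : End F V} (h : Cl ω s y) (e : y * z = 1) (e' : z * y = 1) : Cl ω s z := by
  obtain ⟨h1, U, U', h2, h3, h4, h5⟩ := h
  have inv : ∀ W : Submodule F V, (∀ x ∈ W, y x ∈ W) → ∀ x ∈ W, z x ∈ W := fun W hW x hx => by
    obtain ⟨w, hw⟩ := (LinearMap.injective_iff_surjective (f := y.restrict hW)).mp (fun a b hab => by
      apply Subtype.ext
      have := congrArg (fun w : W => z w) hab
      simpa [← End.mul_apply, e'] using this) ⟨x, hx⟩
    rw [← show y w = x from congrArg Subtype.val hw, ← End.mul_apply, e']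
    exact w.2
  refine ⟨h1.of_inv e, U', U, inv U' h4, h3.symm, inv U h2, Cy.sim (cy_of_irr hc.1 hi ?_ ?_) hc⟩
  · obtain ⟨θ, -⟩ := h3.theta hs
    rw [θ.finrank_eq, Subspace.dual_finrank_eq, h5.finrank, hc.2.1]
  · have k := sim_aeval h5.symm ((hc.aeval_iff p).mpr dvd_rfl)
    refine LinearMap.ext (fun v => Subtype.ext (h3.zero hs (Subtype.prop _) (fun x hx => hs.sw ?_)))
    have a1 := aeval_int (f := z.restrict (inv U' h4)) (g := z) U'.subtype (fun _ => rfl) p v
    have a2 := aeval_int (f := y.restrict h2) (g := y) U.subtype (fun _ => rfl) p ⟨x, hx⟩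
    rw [k] at a2
    simp only [Submodule.subtype_apply] at a1 a2
    rw [a1, ← h1.adj_aeval e, ← a2]
    simp

theorem Cl.pow (hs : Sy ω) {T : Type u} [AddCommGroup T] [Module F T] {s : End F T} {y : End F V}
    (h : Cl ω s y) {N : ℕ} (hN : s ^ N = 1) : y ^ N = 1 := by
  obtain ⟨h1, U, U', h2, h3, h4, h5⟩ := h
  have k := sim_aeval h5.symm (P := X ^ N - 1) (by simp [hN])
  have a : ∀ x ∈ U, (y ^ N) x = x := fun x hx => by
    have a2 := aeval_int (f := y.restrict h2) (g := y) U.subtype (fun _ => rfl) (X ^ N - 1) ⟨x, hx⟩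
    rw [k] at a2
    simpa [sub_eq_zero] using a2.symm
  have b : ∀ n : ℕ, Iso ω (y ^ n) ∧ ∀ x ∈ U', (y ^ n) x ∈ U' := fun n => by
    induction n with
    | zero => exact ⟨iso_one, fun _ h => h⟩
    | succ n ih => rw [pow_succ]; exact ⟨ih.1.mul h1, fun x hx => ih.2 _ (h4 x hx)⟩
  refine LinearMap.ext (fun v => ?_)
  obtain ⟨c, hc, d, hd, rfl⟩ := h3.top v
  rw [map_add, a c hc, End.one_apply, add_right_inj, ← sub_eq_zero]
  refine h3.zero hs (U'.sub_mem ((b N).2 d hd) hd) (fun x hx => ?_)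
  rw [map_sub, LinearMap.sub_apply]
  nth_rewrite 1 [← a x hx]
  rw [(b N).1, sub_self]

/-- The span of two vectors. -/
def io (a b : V) : F × F →ₗ[F] V :=
  (LinearMap.toSpanSingleton F V a).coprod (LinearMap.toSpanSingleton F V b)

omit [FiniteDimensional F V] in
@[simp] theorem io_apply (a b : V) (x : F × F) : io a b x = x.1 • a + x.2 • b := rfl

theorem four (hs : Sy ω) (h4 : finrank F V = 4) {g : End F V} (hg : Iso ω g) {a b : V}
    (hi : Function.Injective (io a b : F × F →ₗ[F] V)) (h0 : ω a b = 0) {σ δ : F}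
    (h : ∀ x : F, x ^ 2 - σ * x + δ ≠ 0) (h1 : δ ≠ 1) (A : End F (F × F))
    (hA : Rz A (qd σ δ) (qd σ δ))
    (hB : ∀ x y, ω (g (io a b x)) (io a b (A y)) + ω (io a b (A x)) (g (io a b y)) = 0)
    (hR : ∀ x y : F × F, g (io a b x) = io a b y → y = A x) :
    ∃ x, Cl ω (m2 0 (-δ) σ) x ∧ Cl ω (m2 0 (-δ) σ) (g * x) := by
  obtain ⟨s, s1, s2⟩ := hA
  have hU : ∀ x y : F × F, ω (io a b x) (io a b y) = 0 := fun x y => by
    simp [hs.alt, h0, hs.sw h0]
  obtain ⟨x, x1, x2⟩ := siegel' hs hg (io a b) hi hU (fun y hy => hs.lag_of_dim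
    (U := LinearMap.range (io a b)) (by rintro _ ⟨x, rfl⟩ _ ⟨y, rfl⟩; exact hU x y)
    (by rw [LinearMap.finrank_range_of_inj hi, h4]; simp) y (by rintro _ ⟨x, rfl⟩; exact hy x))
    A s hB hR (fp_qd h h1) (by rw [qd_coeff0]; simpa using h 0) ((s1.aeval_iff _).mpr dvd_rfl)
    (s2.sim s1)
  have k : Sim s (m2 0 (-δ) σ) := s1.sim (by simpa using cy_m2 0 (-δ) σ)
  exact ⟨x, x1.sim k, x2.sim k⟩

theorem rz_diag (σ δ : F) {l : F} (h0 : l ≠ 0) (h : l = 1 ∨ l + 1 ≠ 0) :
    Rz (l2 l⁻¹ 0 0 l) (qd σ δ) (qd σ δ) := by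
  rcases h with rfl | h
  · have := cy_m2 0 (-δ) σ
    simp only [zero_add, zero_mul, sub_neg_eq_add] at this
    refine ⟨_, this, ?_⟩
    convert this using 1
    refine LinearMap.ext (fun x => by simp)
  have c1 := cy_l2 (σ * l / (l + 1)) (σ * l / (l + 1) * (σ / (l + 1)) - δ) 1 (σ / (l + 1)) one_ne_zero
  have c2 := cy_l2 (l⁻¹ * (σ * l / (l + 1))) (l⁻¹ * (σ * l / (l + 1) * (σ / (l + 1)) - δ)) l
    (l * (σ / (l + 1))) h0
  refine ⟨_, by convert c1 using 2 <;> field_simp <;> ring, ?_⟩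
  convert c2 using 1
  · refine LinearMap.ext (fun x => ?_)
    ext <;> simp <;> ring
  · congr 1 <;> field_simp <;> ring

theorem rz_tr [Fintype F] {σ δ : F} (h : ∀ x : F, x ^ 2 - σ * x + δ ≠ 0) :
    ∃ a b c : F, Rz (l2 a b c (-a)) (qd σ δ) (qd σ δ) := by
  by_cases h2 : (2 : F) = 0
  · refine ⟨1, 0, 0, ?_⟩
    have := rz_diag σ δ one_ne_zero (Or.inl rfl)
    rwa [inv_one, show l2 (1 : F) 0 0 1 = l2 1 0 0 (-1) by congr 1; linear_combination h2] at this
  have hδ : δ ≠ 0 := by simpa using h 0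
  have hD : δ - σ ^ 2 / 4 ≠ 0 := fun e => h (σ / 2) (by
    have : (4 : F) ≠ 0 := by rw [show (4 : F) = 2 * 2 by norm_num]; exact mul_ne_zero h2 h2
    field_simp at e ⊢; linear_combination e)
  obtain ⟨w, c, e⟩ := FiniteField.exists_root_sum_quadratic (f := (X ^ 2 : F[X]))
    (g := C (δ - σ ^ 2 / 4) * X ^ 2 + C (σ ^ 2 / 2) * X + C (δ - σ ^ 2 / 4)) (by simp)
    (degree_quadratic hD) (FiniteField.odd_card_of_char_ne_two (fun e => h2 (by
      have := ringChar.Nat.cast_ringChar (R := F)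
      rwa [e] at this)))
  simp only [eval_add, eval_mul, eval_pow, eval_X, eval_C] at e
  obtain ⟨a, ha⟩ : ∃ a, a = w - σ * (c - 1) / 2 := ⟨_, rfl⟩
  have e' : a ^ 2 + σ * a * (c - 1) + δ * c ^ 2 + δ = 0 := by
    have : (4 : F) ≠ 0 := by rw [show (4 : F) = 2 * 2 by norm_num]; exact mul_ne_zero h2 h2
    rw [← e, ha]; field_simp; ring
  have hc : c ≠ 0 := by
    rintro rfl
    exact h a (by linear_combination e')
  have c1 := cy_m2 0 (-δ) σ
  simp only [zero_add, zero_mul, sub_neg_eq_add] at c1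
  refine ⟨-c, a, (c * σ - (σ - a)) / δ, _, c1, ?_⟩
  convert cy_l2 a (a * σ + c * δ) c (σ - a) hc using 1
  · refine LinearMap.ext (fun x => ?_)
    ext <;> simp <;> field_simp <;> ring
  · congr 1
    · ring
    · linear_combination e'

theorem case_one (hs : Sy ω) (h4 : finrank F V = 4) {g : End F V} (hg : Iso ω g) {a b : V}
    {σ δ : F} (h : ∀ x : F, x ^ 2 - σ * x + δ ≠ 0) (h1 : δ ≠ 1) (k0 : ω a (g a) ≠ 0)
    (k1 : ω a b = 0) (k2 : ω (g a) b = 0) (k3 : ω a (g b) = 0) (hb : b ≠ 0) {l : F} (h0 : l ≠ 0)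
    (hl : l = 1 ∨ l + 1 ≠ 0) (he : ∀ c w : F, c • g b = w • b → w = l * c) :
    ∃ x, Cl ω (m2 0 (-δ) σ) x ∧ Cl ω (m2 0 (-δ) σ) (g * x) := by
  refine four hs h4 hg (a := a) (b := b) ?_ k1 h h1 _ (rz_diag σ δ h0 hl) (fun x y => ?_)
    (fun x y e => ?_)
  · rw [injective_iff_map_eq_zero]
    intro x hx
    have e := congrArg (fun v => ω v (g a)) hx
    simp [hs.sw k2, k0] at e
    simp [e, hb] at hx
    exact Prod.ext e hx
  · simp only [io_apply, l2_apply, map_add, map_smul, LinearMap.add_apply, LinearMap.smul_apply,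
      smul_eq_mul, k2, k3, hs.sw k2, hs.sw k3, hs.skew (g a) a, hs.skew (g b) b]
    ring
  · have e1 := congrArg (fun v => ω a v) e
    simp [k3, k0, k1, hs.alt] at e1
    have e2 := congrArg (fun v => ω (g a) v) e
    simp [e1, hg a b, k1, k2, hs.skew (g a) a, k0] at e2
    simp only [io_apply, e1, e2, zero_smul, zero_add, map_smul] at e
    ext <;> simp [e1, e2, he _ _ e]

theorem cover_four [Fintype F] (hs : Sy ω) (h4 : finrank F V = 4) {g : End F V} (hg : Iso ω g)
    {σ δ : F} (h : ∀ x : F, x ^ 2 - σ * x + δ ≠ 0) (h1 : δ ≠ 1) (g1 : g ≠ 1) (g2 : g ≠ -1) :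
    (∃ x, Cl ω (m2 0 (-δ) σ) x ∧ Cl ω (m2 0 (-δ) σ) (g * x)) ∨
      ∃ x, Cl ω (m2 0 (-δ) σ) x ∧ Cl ω (m2 0 (-δ) σ) (-g * x) := by
  obtain ⟨g', e1, e2⟩ := hg.inv hs
  by_cases hQ : ∃ a, ω a (g a) ≠ 0
  · obtain ⟨a, k0⟩ := hQ
    obtain ⟨b, hb, b0⟩ := (Submodule.ne_bot_iff _).mp (LinearMap.ker_ne_bot_of_finrank_lt
      (f := (ω a).prod ((ω (g a)).prod (ω a ∘ₗ g))) (by simp [h4]))
    obtain ⟨k1, k2, k3⟩ : ω a b = 0 ∧ ω (g a) b = 0 ∧ ω a (g b) = 0 := by simpa using hb
    by_cases hl : ∃ l : F, g b = l • b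
    · obtain ⟨l, hl⟩ := hl
      have l0 : l ≠ 0 := by
        rintro rfl
        apply b0
        rw [← End.one_apply (R := F) b, ← e2, End.mul_apply, hl]; simp
      by_cases hm : l + 1 = 0
      · refine Or.inr (case_one hs h4 (g := -g) (fun x y => by simp [hg x y]) h h1 (a := a) (b := b)
          (by simpa using k0) k1 (by simp [k2]) (by simp [k3]) b0 one_ne_zero (Or.inl rfl)
          (fun c w e => ?_))
        rw [LinearMap.neg_apply, hl, eq_neg_of_add_eq_zero_left hm, neg_one_smul, neg_neg] at e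
        rw [one_mul, smul_left_injective F b0 e]
      · refine Or.inl (case_one hs h4 hg h h1 k0 k1 k2 k3 b0 l0 (Or.inr hm) (fun c w e => ?_))
        rw [hl, smul_smul] at e
        rw [← smul_left_injective F b0 e, mul_comm]
    · refine Or.inl (case_one hs h4 hg h h1 k0 k1 k2 k3 b0 one_ne_zero (Or.inl rfl)
        (fun c w e => ?_))
      by_cases hc : c = 0
      · rw [hc, zero_smul, eq_comm, smul_eq_zero] at e
        simp [hc, e.resolve_right b0]
      · exact absurd ⟨c⁻¹ * w, by rw [mul_smul, ← e, inv_smul_smul₀ hc]⟩ hl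
  push Not at hQ
  have hp : ∀ x y, ω x (g y) = -ω y (g x) := fun x y => by
    have := hQ (x + y)
    simp only [map_add, LinearMap.add_apply, hQ] at this
    linear_combination this
  obtain ⟨a, ha⟩ : ∃ a, LinearIndependent F ![a, g a] := by
    by_contra hn
    push Not at hn
    obtain ⟨c, rfl⟩ := LinearMap.exists_eq_smul_id_of_forall_notLinearIndependent hn
    haveI : Nontrivial V := Module.nontrivial_of_finrank_pos (R := F) (by omega)
    obtain ⟨x, hx⟩ := exists_ne (0 : V)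
    obtain ⟨y, -, hy⟩ := hs.sep (S := ⊥) (z := x) (by simpa using hx)
    have := hg y x
    simp only [LinearMap.smul_apply, End.one_apply, map_smul, smul_eq_mul] at this
    rcases mul_self_eq_one_iff.mp (mul_right_cancel₀ hy (show c * c * ω y x = 1 * ω y x by
      linear_combination this)) with rfl | rfl
    · exact g1 (one_smul _ _)
    · exact g2 (neg_one_smul _ _)
  obtain ⟨b, b1, b2⟩ := hs.sep (S := Submodule.span F {a}) (z := g a) (fun e => by
    obtain ⟨c, e⟩ := Submodule.mem_span_singleton.mp e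
    exact (LinearIndependent.pair_iff' (by simpa using ha.ne_zero 0)).mp ha c e)
  have b3 := b1 a (Submodule.mem_span_singleton_self a)
  obtain ⟨p, q, r, hA⟩ := rz_tr h
  refine Or.inl (four hs h4 hg (a := a) (b := b) ?_ (hs.sw b3) h h1 _ hA (fun x y => ?_)
    (fun x y e => ?_))
  · rw [injective_iff_map_eq_zero]
    intro x hx
    have e := congrArg (fun v => ω v (g a)) hx
    have e' := congrArg (fun v => ω v (g b)) hx
    simp [hQ, b2] at e
    simp [hQ, hp a b, b2] at e'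
    exact Prod.ext e' e
  · simp only [io_apply, l2_apply, map_add, map_smul, LinearMap.add_apply, LinearMap.smul_apply,
      smul_eq_mul, hs.skew (g _) a, hs.skew (g _) b, hQ, hp a b]
    ring
  · have e1 := congrArg (fun v => ω a v) e
    have e2 := congrArg (fun v => ω b v) e
    simp [hQ, hp a b, b2, hs.alt, hs.sw b3] at e1
    simp [hQ, b2, hs.alt, b3] at e2
    have e3 := congrArg (fun v => ω v (g a)) e
    have e4 := congrArg (fun v => ω v (g b)) e
    simp [e1, e2, hQ, b2] at e3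
    simp [e1, e2, hQ, hp a b, b2] at e4
    ext <;> simp [e1, e2, e3, e4]

theorem exists_qd [Fintype F] {δ : F} (hδ : δ ≠ 0) : ∃ σ : F, ∀ x : F, x ^ 2 - σ * x + δ ≠ 0 := by
  classical
  obtain ⟨σ, -, h⟩ := Finset.exists_mem_notMem_of_card_lt_card
    (s := (Finset.univ.erase (0 : F)).image (fun x => x + δ / x)) (t := Finset.univ)
    (Finset.card_image_le.trans_lt (Finset.card_erase_lt_of_mem (Finset.mem_univ _)))
  refine ⟨σ, fun x e => ?_⟩
  have hx : x ≠ 0 := by rintro rfl; exact hδ (by simpa using e)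
  refine h (Finset.mem_image.mpr ⟨x, by simpa using hx, ?_⟩)
  field_simp
  linear_combination e

theorem pow_of_irr [Fintype F] {s : End F V} {p : F[X]} (h : Cy s p) (hi : Irreducible p)
    (h0 : p.coeff 0 ≠ 0) : s ^ (Fintype.card F ^ p.natDegree - 1) = 1 := by
  haveI := h.1.finite_adjoinRoot
  haveI := Fact.mk hi
  haveI : Finite (AdjoinRoot p) := Module.finite_of_finite F
  letI := Fintype.ofFinite (AdjoinRoot p)
  have h1 := FiniteField.pow_card_sub_one_eq_one (AdjoinRoot.root p) (fun e => h0 (by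
    have := AdjoinRoot.eval₂_root p
    rw [e, eval₂_at_zero] at this
    exact (AdjoinRoot.of p).injective (this.trans (map_zero _).symm)))
  rw [Module.card_eq_pow_finrank (K := F), finrank_adj h.1] at h1
  have := (h.aeval_iff (X ^ (Fintype.card F ^ p.natDegree - 1) - 1)).mpr
    (AdjoinRoot.mk_eq_zero.mp (by simp [h1]))
  simpa [sub_eq_zero] using this

theorem psp_four [Fintype F] (p : ℕ) [Fact p.Prime] [CharP F p] (h3 : 3 ≤ Fintype.card F) :
    ∃ x : symplecticGroup (Fin 2) F ⧸ Subgroup.center (symplecticGroup (Fin 2) F),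
      ¬ p ∣ orderOf x ∧ ∀ g, g ≠ 1 → ∃ u v, g = (u * x * u⁻¹) * (v * x * v⁻¹) := by
  classical
  obtain ⟨δ, -, hδ⟩ := Finset.exists_mem_notMem_of_card_lt_card (s := ({0, 1} : Finset F))
    (t := Finset.univ) (Finset.card_le_two.trans_lt (by rw [Finset.card_univ]; omega))
  obtain ⟨d0, d1⟩ : δ ≠ 0 ∧ δ ≠ 1 := by simpa using hδ
  obtain ⟨σ, h⟩ := exists_qd d0
  have hs := sy_om (l := Fin 2) (F := F)
  have h4 : finrank F (Fin 2 ⊕ Fin 2 → F) = 4 := by simp
  have c1 := cy_m2 0 (-δ) σ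
  simp only [zero_add, zero_mul, sub_neg_eq_add] at c1
  obtain ⟨t, ht, -⟩ := four hs h4 iso_one (a := Pi.single (Sum.inl 0) 1)
    (b := Pi.single (Sum.inl 1) 1) (fun x y e => Prod.ext (by simpa using congrFun e (Sum.inl 0))
      (by simpa using congrFun e (Sum.inl 1))) (by simp [J]) h d1 1 ⟨_, c1, c1⟩
      (fun x y => by simp [om_apply]) (fun x y e => Prod.ext
        (by simpa using (congrFun e (Sum.inl 0)).symm) (by simpa using (congrFun e (Sum.inl 1)).symm))
  obtain ⟨T, rfl⟩ := exists_sp ht.1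
  have key : ∀ Y : symplecticGroup (Fin 2) F, Cl (om (Fin 2) F) (m2 0 (-δ) σ)
      (toLin' (Y : Matrix _ _ F)) → ∃ u, Y = u * T * u⁻¹ := fun Y hY => by
    obtain ⟨c, k1, k2⟩ := ht.conj hs hY
    obtain ⟨C, rfl⟩ := exists_sp k1
    rw [← sp_mul, ← sp_mul] at k2
    exact ⟨C, by rw [sp_ext k2]; simp⟩
  have main : ∀ G : symplecticGroup (Fin 2) F, (∃ x, Cl (om (Fin 2) F) (m2 0 (-δ) σ) x ∧
      Cl (om (Fin 2) F) (m2 0 (-δ) σ) ((toLin' (G : Matrix _ _ F) : End F _) * x)) →
      ∃ u v, G = (u * T * u⁻¹) * (v * T * v⁻¹) := by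
    rintro G ⟨x, x1, x2⟩
    obtain ⟨Y, rfl⟩ := exists_sp x1.1
    obtain ⟨u, hu⟩ := key _ (sp_mul G Y ▸ x2)
    obtain ⟨v, hv⟩ := key Y⁻¹ (x1.inv hs c1 (irr_qd h) (by rw [← sp_mul]; simp [End.one_eq_id])
      (by rw [← sp_mul]; simp [End.one_eq_id]))
    exact ⟨u, v, by rw [← hu, ← hv]; simp⟩
  let Z : symplecticGroup (Fin 2) F := ⟨-1, SymplecticGroup.neg_mem (one_mem _)⟩
  have hZ : (Z : symplecticGroup (Fin 2) F ⧸ Subgroup.center (symplecticGroup (Fin 2) F)) = 1 :=
    (QuotientGroup.eq_one_iff _).mpr (Subgroup.mem_center_iff.mpr (fun g => Subtype.ext (by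
      simp [Z])))
  refine ⟨T, fun hp => ?_, fun g hg => ?_⟩
  · have k := ht.pow hs (pow_of_irr c1 (irr_qd h) (by rwa [qd_coeff0]))
    have k2 : T ^ (Fintype.card F ^ (qd σ δ).natDegree - 1) = 1 := sp_ext (by
      rw [SubmonoidClass.coe_pow, toLin'_pow, k]; simp [End.one_eq_id])
    have k3 := hp.trans (orderOf_dvd_of_pow_eq_one (by rw [← QuotientGroup.mk_pow, k2]; rfl))
    obtain ⟨n, -, hn⟩ := FiniteField.card F p
    have k4 : p ∣ Fintype.card F ^ (qd σ δ).natDegree := by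
      rw [hn, qd_natDegree]
      exact (dvd_pow_self p n.ne_zero).trans (dvd_pow_self _ two_ne_zero)
    have := (Nat.dvd_sub_iff_right (Nat.one_le_pow _ _ (by omega)) k4).mp k3
    exact (Fact.out : p.Prime).one_lt.ne' (Nat.dvd_one.mp this)
  · obtain ⟨G, rfl⟩ := QuotientGroup.mk_surjective g
    rcases cover_four hs h4 ((iso_iff _).mpr G.2) h d1 (fun e => hg (by
      rw [show G = 1 from sp_ext (by rw [e]; simp [End.one_eq_id])]; rfl)) (fun e => hg (by
      rw [show G = Z from sp_ext (by rw [e]; simp [Z, End.one_eq_id]), hZ])) with k | k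
    · obtain ⟨u, v, e⟩ := main G k
      exact ⟨u, v, by rw [e]; simp⟩
    · obtain ⟨u, v, e⟩ := main (Z * G) (by simpa [Z] using k)
      refine ⟨u, v, ?_⟩
      have := congrArg (QuotientGroup.mk (s := Subgroup.center (symplecticGroup (Fin 2) F))) e
      simpa [hZ] using this

end Cfsg.Agent.Ore
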